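import Groth.Agent.Lefpen.H534.TupleRep
import Groth.Agent.S0105
import Groth.Agent.Sga3C.LocConn
import Groth.Agent.EtpbcA.FLC
import Mathlib.Algebra.Module.Equiv.Basic
import Mathlib.GroupTheory.OrderOfElement

/-!
# The connected Galois covering trivialising a finite locally constant sheaf

`F` finite locally constant on a connected locally Noetherian scheme `X`. `Gal F` is the type of
data: a connected finite étale `A → X`, an isomorphism `φ : M ≅ F|_A`, and a group `G` of
automorphisms of `M` acting on `A` over `X` compatibly with `φ`, étale locally transitively, with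
`A` minimal: points of `A` are separated by `φ`. `Gal.nonempty` is the existence.
Consequences: `G` acts simply transitively on geometric fibres.
-/

set_option autoImplicit false
universe u

open CategoryTheory CategoryTheory.Limits AlgebraicGeometry Opposite

namespace Groth.Agent.Lefpen.H534.IsoTorsor

open Groth.Agent.Etbase Groth.Agent.Etcore Groth.Agent.EtpbcA Groth.Agent.EtpbcA.ConsVan
open Groth.Agent.Sga5.FlcClopen Groth.Agent.Sga5.FlcCover TupleRep

variable {X : Scheme.{u}} (F : EtCoh.Ab X)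

/-- Bijectivity at points gives bijectivity on geometric stalks. -/
theorem isConstVia_of_bijAt {M : Type} [AddCommGroup M] {U : X.Etale} (φ : M →+ EtCoh.sect F U)
    (h : ∀ y, BijAt F φ y) : FLC.IsConstVia F U φ := by
  refine FLC.IsConstVia.of_sections φ ?_ ?_
  · intro V g v m hm
    apply (h (g.left v)).1 m
    rw [← van_res_iff]
    exact van_zero_of_eq hm v
  · intro V g v s
    obtain ⟨m, W, k, w, hw, hk⟩ := (h (g.left v)).2 V g v rfl s
    refine ⟨W, k, w, m, hw, ?_⟩
    rw [map_sub, sub_eq_zero] at hk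
    have h2 : res F (k ≫ g) (φ m) = res F k (res F g (φ m)) := res_comp F g k (φ m)
    exact hk.trans h2.symm

/-- Comparison of two trivialisations at a point. -/
theorem exists_compare {M : Type} [AddCommGroup M] [Finite M] {W : X.Etale}
    (ψ₁ ψ₂ : M →+ EtCoh.sect F W) (h₁ : ∀ y, BijAt F ψ₁ y) (h₂ : ∀ y, BijAt F ψ₂ y) (w : W.left) :
    ∃ (g : M ≃+ M) (W' : X.Etale) (k : W' ⟶ W) (w' : W'.left), k.left w' = w ∧
      ∀ m, res F k (ψ₂ m) = res F k (ψ₁ (g m)) := by
  have hex : ∀ m : M, ∃ n : M, Van F (ψ₂ m - ψ₁ n) w := by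
    intro m
    obtain ⟨n, hn⟩ := (h₁ w).2 W (𝟙 W) w rfl (ψ₂ m)
    rw [res_id] at hn
    exact ⟨n, hn⟩
  choose g hg using hex
  have hinj1 : ∀ n n' : M, Van F (ψ₁ n - ψ₁ n') w → n = n' := by
    intro n n' h
    rw [← map_sub] at h
    exact sub_eq_zero.1 ((h₁ w).1 _ h)
  have hadd : ∀ m m', g (m + m') = g m + g m' := by
    intro m m'
    apply hinj1
    have h3 := (hg (m + m')).symm
    have h4 := (hg m).add (hg m')
    have h5 := h3.add h4
    rw [map_add] at h5
    have e : ψ₁ (g (m + m')) - (ψ₂ m + ψ₂ m') + (ψ₂ m - ψ₁ (g m) + (ψ₂ m' - ψ₁ (g m'))) =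
        ψ₁ (g (m + m')) - ψ₁ (g m + g m') := by
      rw [map_add]
      abel
    rwa [e] at h5
  have hinj : Function.Injective g := by
    intro m m' h
    have h3 := (hg m).sub (hg m')
    rw [h, sub_sub_sub_cancel_right, ← map_sub] at h3
    exact sub_eq_zero.1 ((h₂ w).1 _ h3)
  let g' : M ≃+ M := AddEquiv.ofBijective (AddMonoidHom.mk' g hadd) (Finite.injective_iff_bijective.1 hinj)
  obtain ⟨W', k, w', hw', hk⟩ := exists_common_finite w
    (fun (m : M) (W' : X.Etale) (k : W' ⟶ W) => res F k (ψ₂ m) = res F k (ψ₁ (g m)))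
    (by
      intro m V₁ V₂ k k' h
      rw [res_comp, res_comp, h])
    (by
      intro m
      obtain ⟨W', k, w', hw', h0⟩ := hg m
      refine ⟨W', k, w', hw', ?_⟩
      rwa [map_sub, sub_eq_zero] at h0)
  exact ⟨g', W', k, w', hw', hk⟩

/-- The same finite group trivialises `F` around each point. -/
theorem exists_group [ConnectedSpace X] (hF : EtCoh.IsFiniteLocallyConstant F) :
    ∃ (M : Type) (_ : AddCommGroup M) (_ : Finite M), ∀ x : X, ∃ (U : X.Etale) (y : U.left)
      (φ : M →+ EtCoh.sect F U), U.hom y = x ∧ ∀ y, BijAt F φ y := by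
  obtain ⟨M, _, _, ι, U, hU, e⟩ := Groth.Agent.S0105.result F hF
  refine ⟨M, inferInstance, inferInstance, fun x => ?_⟩
  obtain ⟨i, y, hy⟩ := hU x
  obtain ⟨e⟩ := e i
  obtain ⟨φ, hφ⟩ := ConsFLC.exists_of_iso_const e
  exact ⟨U i, y, φ, hy, hφ⟩

/-- A connected Galois covering trivialising `F`, minimal for this property. -/
structure Gal where
  /-- the value group -/
  M : Type
  [add : AddCommGroup M]
  [fin : Finite M]
  /-- the covering -/
  A : X.Etale
  isFinite : IsFinite A.hom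
  conn : ConnectedSpace A.left
  /-- the trivialisation -/
  φ : M →+ EtCoh.sect F A
  /-- the Galois group -/
  G : Subgroup (M ≃ₗ[ℤ] M)
  /-- the (right) action of the Galois group -/
  f : G → (A ⟶ A)
  bij : ∀ y, BijAt F φ y
  res_f : ∀ (g : G) (m : M), res F (f g) (φ m) = φ (g.1 m)
  min : ∀ (W : X.Etale) (a b : W ⟶ A), (∀ m, res F a (φ m) = res F b (φ m)) → a = b
  trans : ∀ (W : X.Etale) (a b : W ⟶ A) (w : W.left), ∃ (g : G) (W' : X.Etale) (k : W' ⟶ W)
    (w' : W'.left), k.left w' = w ∧ (k ≫ a) ≫ f g = k ≫ b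

attribute [instance] Gal.add Gal.fin Gal.isFinite Gal.conn

/-- **The connected Galois covering trivialising `F`.** -/
theorem Gal.nonempty [ConnectedSpace X] [IsLocallyNoetherian X]
    (hF : EtCoh.IsFiniteLocallyConstant F) : Nonempty (Gal F) := by
  obtain ⟨M, _, _, hM⟩ := exists_group F hF
  obtain ⟨P, hP, φP, hφP, hu⟩ := exists_isoTorsor F hF M
  -- a point of `P`
  obtain ⟨x⟩ := (inferInstance : Nonempty X)
  obtain ⟨U, y, ψ, hy, hψ⟩ := hM x
  obtain ⟨f0, -, -⟩ := hu U ψ hψ
  let p : P.left := f0.left y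
  have hPn : IsLocallyNoetherian P.left := by
    let h : P.left ⟶ X := P.hom
    have : LocallyOfFiniteType h := by
      have : IsFinite h := hP
      infer_instance
    exact LocallyOfFiniteType.isLocallyNoetherian h
  have hlc : LocallyConnectedSpace P.left :=
    Sga3C.LocConn.locallyConnectedSpace_of_isLocallyNoetherian P.left
  let O : P.left.Opens := ⟨connectedComponent p, isOpen_connectedComponent⟩
  have hO : IsClopen (O : Set P.left) := isClopen_connectedComponent
  let A : X.Etale := sub P O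
  have hA : IsFinite A.hom := isFinite_sub P O hO.isClosed
  have hAc : ConnectedSpace A.left :=
    isConnected_iff_connectedSpace.mp (isConnected_connectedComponent (x := p))
  let ι : A ⟶ P := inc P O
  let φ : M →+ EtCoh.sect F A := resHom ι φP
  have hφ : ∀ y, BijAt F φ y := fun y => by
    rw [bijAt_res_iff]
    exact hφP _
  -- minimality
  have hmin : ∀ (W : X.Etale) (a b : W ⟶ A), (∀ m, res F a (φ m) = res F b (φ m)) → a = b := by
    intro W a b hab
    apply inc_cancel O
    have h1 : ∀ m, res F (a ≫ ι) (φP m) = res F (b ≫ ι) (φP m) := by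
      intro m
      rw [res_comp, res_comp]
      exact hab m
    exact (hu W (resHom (b ≫ ι) φP) (fun y => by
      rw [bijAt_res_iff]; exact hφP _)).unique (fun m => h1 m) (fun m => rfl)
  let S : Submonoid (M ≃ₗ[ℤ] M) :=
    { carrier := {g | ∃ α : A ⟶ A, ∀ m, res F α (φ m) = φ (g m)}
      one_mem' := ⟨𝟙 A, fun m => res_id F _⟩
      mul_mem' := by
        rintro g h ⟨α, hα⟩ ⟨β, hβ⟩
        refine ⟨α ≫ β, fun m => ?_⟩
        rw [res_comp, hβ, hα]
        rfl }
  let G : Subgroup (M ≃ₗ[ℤ] M) :=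
    { S with
      inv_mem' := by
        intro g hg
        have hfin : Finite (M ≃ₗ[ℤ] M) :=
          Finite.of_injective (fun (g : M ≃ₗ[ℤ] M) => (g : M → M)) DFunLike.coe_injective
        obtain ⟨n, hn, hn1⟩ := isOfFinOrder_of_finite g |>.exists_pow_eq_one
        have h2 : g⁻¹ = g ^ (n - 1) := by
          rw [inv_eq_iff_mul_eq_one, ← pow_succ', Nat.sub_add_cancel hn, hn1]
        have : g ^ (n - 1) ∈ S := pow_mem (show g ∈ S from hg) _
        change g⁻¹ ∈ S
        rwa [h2] }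
  have hG : ∀ g : G, ∃ α : A ⟶ A, ∀ m, res F α (φ m) = φ (g.1 m) := fun g => g.2
  choose f hf using hG
  refine ⟨⟨M, A, hA, hAc, φ, G, f, hφ, hf, hmin, ?_⟩⟩
  intro W a b w
  obtain ⟨g, W', k, w', hw', hk⟩ := exists_compare F (resHom a φ) (resHom b φ)
    (fun y => by rw [bijAt_res_iff]; exact hφ _) (fun y => by rw [bijAt_res_iff]; exact hφ _) w
  -- the map `A → P` given by `φ ∘ g`
  have hφg : ∀ y, BijAt F (φ.comp g.toAddMonoidHom) y := by
    intro y
    constructor
    · intro m hm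
      exact g.map_eq_zero_iff.1 ((hφ y).1 (g m) hm)
    · intro V c v hv t
      obtain ⟨m, hm⟩ := (hφ y).2 V c v hv t
      refine ⟨g.symm m, ?_⟩
      have : (φ.comp g.toAddMonoidHom) (g.symm m) = φ m := congrArg φ (g.apply_symm_apply m)
      rw [this]
      exact hm
  obtain ⟨γ, hγ, -⟩ := hu A (φ.comp g.toAddMonoidHom) hφg
  have hγ' : ∀ m, res F γ (φP m) = φ (g m) := hγ
  have h1 : (k ≫ a) ≫ γ = (k ≫ b) ≫ ι := by
    refine (hu W' (resHom ((k ≫ b) ≫ ι) φP) (fun y => by
      rw [bijAt_res_iff]; exact hφP _)).unique (fun m => ?_) (fun m => rfl)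
    rw [res_comp, hγ', res_comp]
    refine (hk m).symm.trans ?_
    change res F k (res F b (res F ι (φP m))) = res F ((k ≫ b) ≫ ι) (φP m)
    rw [res_comp, res_comp]
  have h2 : γ.left (a.left w) = ι.left (b.left w) := by
    have h3 : ((k ≫ a) ≫ γ).left w' = ((k ≫ b) ≫ ι).left w' := by rw [h1]
    have h4 : ((k ≫ a) ≫ γ).left w' = γ.left (a.left (k.left w')) := rfl
    have h5 : ((k ≫ b) ≫ ι).left w' = ι.left (b.left (k.left w')) := rfl
    rw [h4, h5, hw'] at h3
    exact h3
  -- it lands in the component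
  have h3 : ∀ z : A.left, γ.left z ∈ O := by
    have h4 : _root_.IsPreconnected (Set.range γ.left) := isPreconnected_range γ.left.continuous
    have h5 : Set.range γ.left ⊆ (O : Set P.left) := by
      refine h4.subset_isClopen hO ⟨γ.left (a.left w), ⟨a.left w, rfl⟩, ?_⟩
      rw [h2]
      exact (b.left w).2
    intro z
    exact h5 ⟨z, rfl⟩
  obtain ⟨α, hα⟩ := exists_lift_sub O γ h3
  have hαm : ∀ m, res F α (φ m) = φ (g m) := by
    intro m
    change res F α (res F ι (φP m)) = φ (g m)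
    rw [← res_comp, hα, hγ']
  have hgG : g.toIntLinearEquiv ∈ G := ⟨α, hαm⟩
  refine ⟨⟨g.toIntLinearEquiv, hgG⟩, W', k, w', hw', ?_⟩
  have h6 : f ⟨g.toIntLinearEquiv, hgG⟩ = α := by
    apply hmin
    intro m
    rw [hf, hαm]
    rfl
  rw [h6]
  apply inc_cancel O
  rw [Category.assoc, hα]
  exact h1

namespace Gal

variable {F} (D : Gal F)

theorem f_one : D.f 1 = 𝟙 D.A := by
  apply D.min
  intro m
  rw [D.res_f, res_id]
  rfl

theorem f_mul (g h : D.G) : D.f (g * h) = D.f g ≫ D.f h := by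
  apply D.min
  intro m
  rw [D.res_f, res_comp, D.res_f, D.res_f]
  rfl

theorem f_inv_comp (g : D.G) : D.f g⁻¹ ≫ D.f g = 𝟙 D.A := by
  rw [← f_mul, inv_mul_cancel, f_one]

theorem f_comp_inv (g : D.G) : D.f g ≫ D.f g⁻¹ = 𝟙 D.A := by
  rw [← f_mul, mul_inv_cancel, f_one]

/-- The action by automorphisms. -/
noncomputable def aut : D.G →* Aut D.A where
  toFun g := ⟨D.f g⁻¹, D.f g, D.f_inv_comp g, D.f_comp_inv g⟩
  map_one' := by
    ext1
    change D.f 1⁻¹ = 𝟙 D.A
    rw [inv_one, f_one]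
  map_mul' g h := by
    ext1
    change D.f (g * h)⁻¹ = D.f h⁻¹ ≫ D.f g⁻¹
    rw [mul_inv_rev, f_mul]

theorem isConstVia : FLC.IsConstVia F D.A D.φ := isConstVia_of_bijAt F D.φ D.bij

/-- `G` acts transitively on the fibres. -/
theorem exists_of_hom_eq (y₁ y₂ : D.A.left) (h : D.A.hom y₁ = D.A.hom y₂) :
    ∃ g, (D.f g).left y₁ = y₂ := by
  obtain ⟨W, a, b, w, ha, hb⟩ := Cover.exists_common D.A D.A y₁ y₂ h
  obtain ⟨g, W', k, w', hw', hk⟩ := D.trans W a b w
  refine ⟨g, ?_⟩
  have h3 : ((k ≫ a) ≫ D.f g).left w' = (k ≫ b).left w' := by rw [hk]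
  have h4 : ((k ≫ a) ≫ D.f g).left w' = (D.f g).left (a.left (k.left w')) := rfl
  have h5 : (k ≫ b).left w' = b.left (k.left w') := rfl
  rw [h4, h5, hw', ha, hb] at h3
  exact h3

section Geom

open Germ hiding res res_apply res_comp

variable {Ω : Type u} [Field Ω] [IsSepClosed Ω] (ξ : Spec (CommRingCat.of Ω) ⟶ X)

/-- Geometric points of the covering are separated by the trivialisation. -/
theorem eq_of_germ (a b : Fib ξ D.A) (h : ∀ m, germ ξ F a (D.φ m) = germ ξ F b (D.φ m)) :
    a = b := by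
  obtain ⟨W, p, q, w, hp, hq⟩ := Germ.exists_common ξ D.A D.A a b
  have h1 : ∀ m, ∃ (V : X.Etale) (g : V ⟶ W) (v : Fib ξ V), fmap ξ g v = w ∧
      F.obj.map g.op (F.obj.map p.op (D.φ m)) = F.obj.map g.op (F.obj.map q.op (D.φ m)) := by
    intro m
    rw [← germ_eq_iff, germ_res, germ_res, hp, hq]
    exact h m
  -- a common neighbourhood
  have h2 : ∃ (V : X.Etale) (g : V ⟶ W) (v : Fib ξ V), fmap ξ g v = w ∧
      ∀ m, res F g (res F p (D.φ m)) = res F g (res F q (D.φ m)) := by
    obtain ⟨V, k, v, hv, hk⟩ := exists_common_finite (pt ξ w)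
      (fun (m : D.M) (V : X.Etale) (g : V ⟶ W) =>
        res F g (res F p (D.φ m)) = res F g (res F q (D.φ m)))
      (by
        intro m V₁ V₂ k k' h
        rw [res_comp, h, res_comp])
      (by
        intro m
        obtain ⟨V, g, v, hv, hg⟩ := h1 m
        exact ⟨V, g, pt ξ v, by rw [← pt_fmap, hv], hg⟩)
    obtain ⟨v', hv', -⟩ := exists_lift ξ k w v hv
    exact ⟨V, k, v', hv', hk⟩
  obtain ⟨V, g, v, hv, hg⟩ := h2
  have h3 : g ≫ p = g ≫ q := by
    apply D.min
    intro m
    rw [res_comp, res_comp]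
    exact hg m
  rw [← hp, ← hq, ← hv, ← fmap_comp, ← fmap_comp, h3]

/-- `G` acts freely on geometric points. -/
theorem eq_one_of_fmap (g : D.G) (a : Fib ξ D.A) (h : fmap ξ (D.f g) a = a) : g = 1 := by
  apply Subtype.ext
  apply LinearEquiv.ext
  intro m
  apply (D.isConstVia Ω ξ a).1
  change germ ξ F a (D.φ (g.1 m)) = germ ξ F a (D.φ m)
  rw [← D.res_f, res_apply, germ_res, h]

/-- `G` acts transitively on geometric fibres. -/
theorem exists_fmap_eq (a b : Fib ξ D.A) : ∃ g, fmap ξ (D.f g) a = b := by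
  obtain ⟨W, p, q, w, hp, hq⟩ := Germ.exists_common ξ D.A D.A a b
  obtain ⟨g, W', k, w', hw', hk⟩ := D.trans W p q (pt ξ w)
  obtain ⟨v, hv, -⟩ := exists_lift ξ k w w' hw'
  refine ⟨g, ?_⟩
  rw [← hp, ← hq, ← hv, ← fmap_comp, ← fmap_comp, ← fmap_comp, ← hk, Category.assoc]

end Geom

/-- `G` acts freely on `T`-valued points, `T` nonempty. -/
theorem eq_one_of_comp {T : Scheme.{u}} [Nonempty T] (t : T ⟶ D.A.left) (g : D.G)
    (h : t ≫ (D.f g).left = t) : g = 1 := by
  obtain ⟨z⟩ := (inferInstance : Nonempty T)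
  obtain ⟨Ω, _, _, l, hl⟩ := Germ.exists_geomPt_aux T z
  let a : Germ.Fib (l ≫ t ≫ D.A.hom) D.A := Over.homMk (l ≫ t) (Category.assoc _ _ _)
  apply D.eq_one_of_fmap _ g a
  apply Over.OverMorphism.ext
  change (l ≫ t) ≫ (D.f g).left = l ≫ t
  rw [Category.assoc, h]

end Gal

end Groth.Agent.Lefpen.H534.IsoTorsor
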