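import Groth.Statements.S3998
import Groth.Statements.S4001
import Groth.Statements.S4002
import Groth.Agent.S0101
import Groth.Agent.Sga4h.TameExt

/-!
# The tame extension killing the monodromy of an ordinary quadratic degeneration

From the Picard–Lefschetz rows `S3998`, `S4001`, `S4002` (as hypotheses): over a strictly henselian
trait, a finite extension of degree `2` (even relative dimension) resp. `ℓ` (odd relative dimension)
of the fraction field acts trivially on all the cohomology of the geometric generic fibre.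
-/

set_option autoImplicit false
universe u
open CategoryTheory CategoryTheory.Limits AlgebraicGeometry

namespace Groth.Agent.Lefpen.H534.PicLefTame

/-- Roots of a uniformizer. -/
theorem exists_root_ext (R K Ω : Type u) [CommRing R] [IsDomain R] [IsDiscreteValuationRing R]
    [Field K] [Algebra R K] [IsFractionRing R K] [Field Ω] [Algebra K Ω] [hΩ : IsSepClosure K Ω]
    {e : ℕ} (he : IsUnit (e : R)) {π : R} (hπ : Irreducible π) :
    ∃ (r : Ω) (K₁ : IntermediateField K Ω), r ^ e = algebraMap K Ω (algebraMap R K π) ∧ r ∈ K₁ ∧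
      FiniteDimensional K K₁ ∧ Module.finrank K K₁ = e := by
  have hsc : IsSepClosed Ω := hΩ.sep_closed
  have hsep : Algebra.IsSeparable K Ω := hΩ.separable
  have he0 : e ≠ 0 := by
    rintro rfl
    rw [Nat.cast_zero] at he
    exact not_isUnit_zero he
  have hne : NeZero (e : Ω) := ⟨by
    have h1 := (he.map (algebraMap R K)).map (algebraMap K Ω)
    rw [map_natCast, map_natCast] at h1
    exact h1.ne_zero⟩
  obtain ⟨r, hr⟩ := IsSepClosed.exists_pow_nat_eq (algebraMap K Ω (algebraMap R K π)) e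
  have hint : IsIntegral K r := Algebra.IsIntegral.isIntegral r
  refine ⟨r, IntermediateField.adjoin K {r}, hr, IntermediateField.mem_adjoin_simple_self K r,
    IntermediateField.adjoin.finiteDimensional hint, ?_⟩
  have h1 : minpoly K r = Polynomial.X ^ e - Polynomial.C (algebraMap R K π) := by
    symm
    apply minpoly.eq_of_irreducible_of_monic (Sga4h.TameExt.irreducible_X_pow_sub_C K he0 hπ)
    · simp [hr]
    · exact Polynomial.monic_X_pow_sub_C _ he0
  rw [IntermediateField.adjoin.finrank hint, h1, Polynomial.natDegree_X_pow_sub_C]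

/-- **The tame extension over which the monodromy is trivial.** -/
theorem exists_ext (h98 : type_of% @VanCyc.GrothFrozen.S3998.{u})
    (h01 : type_of% @VanCyc.GrothFrozen.S4001.{u}) (h02 : type_of% @VanCyc.GrothFrozen.S4002.{u})
    (R K Ω : Type u) [CommRing R] [IsDomain R] [IsDiscreteValuationRing R]
    (hR : EtCoh.IsStrictlyHenselianLocalRing R) [Field K] [Algebra R K] [IsFractionRing R K]
    [Field Ω] [Algebra K Ω] [IsSepClosure K Ω] [Algebra R Ω] [IsScalarTower R K Ω]
    {X : Scheme.{u}} (f : X ⟶ Spec (CommRingCat.of R)) [IsProper f] [Flat f] (n : ℕ)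
    (hη : SmoothOfRelativeDimension n (VanCyc.fibStr R f K))
    (Sing : Finset ↥(VanCyc.spFib R f))
    (hSc : ∀ x ∈ Sing, IsClosed ({x} : Set ↥(VanCyc.spFib R f)))
    (hSq : ∀ x ∈ Sing, VanCyc.IsOrdQuadPt (VanCyc.resHom (VanCyc.spStr R f) x) n)
    (U : (VanCyc.spFib R f).Opens) (hU : ∀ x : ↥(VanCyc.spFib R f), x ∉ Sing → x ∈ U)
    (hUs : SmoothOfRelativeDimension n (U.ι ≫ VanCyc.spStr R f))
    (N : ℕ) (hN : IsUnit (N : R)) (hpar : Odd n ∨ IsUnit (2 : R)) :
    ∃ K₁ : IntermediateField K Ω, FiniteDimensional K K₁ ∧ IsUnit ((Module.finrank K K₁ : ℕ) : R) ∧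
      ∀ (q : ℕ) (σ : Ω ≃ₐ[K] Ω) [PreservesFiniteLimits (EtCoh.pull (VanCyc.galGeom f σ))],
        (∀ x ∈ K₁, σ x = x) → VanCyc.galH f σ (EtCoh.const X (ZMod N)) q = AddMonoidHom.id _ := by
  have hj : PreservesFiniteLimits (EtCoh.pull (VanCyc.jA R f Ω)) := S0101.result _
  obtain ⟨t, ht⟩ := IsDiscreteValuationRing.exists_irreducible R
  rcases Nat.even_or_odd n with hn | hn
  · have h2 : IsUnit (2 : R) := hpar.resolve_left (by
      intro h
      exact (Nat.not_odd_iff_even.2 hn) h)
    obtain ⟨r, K₁, hr, hrK, hfd, hdeg⟩ := exists_root_ext R K Ω (e := 2)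
      (by exact_mod_cast h2) ht
    refine ⟨K₁, hfd, by rw [hdeg]; exact_mod_cast h2, ?_⟩
    intro q σ _ hσ
    by_cases hq : q = n
    · subst hq
      refine h01 R K Ω hR f q hη Sing hSc hSq U hU hUs N hN hn h2 t ht σ ?_
      unfold VanCyc.quadChar
      rw [if_pos]
      intro s hs
      have h3 : s * s = r * r := by rw [hs, ← hr, sq]
      rcases mul_self_eq_mul_self_iff.1 h3 with h4 | h4
      · rw [h4, hσ r hrK]
      · rw [h4, map_neg, hσ r hrK]
    · exact h98 R K Ω hR f n hη Sing hSc hSq U hU hUs N hN σ q hq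
  · obtain ⟨r, K₁, hr, hrK, hfd, hdeg⟩ := exists_root_ext R K Ω (e := N) hN ht
    refine ⟨K₁, hfd, by rw [hdeg]; exact hN, ?_⟩
    intro q σ _ hσ
    by_cases hq : q = n
    · subst hq
      exact h02 R K Ω hR f q hη Sing hSc hSq U hU hUs N hN hn t ht σ ⟨r, hr, hσ r hrK⟩
    · exact h98 R K Ω hR f n hη Sing hSc hSq U hU hUs N hN σ q hq

end Groth.Agent.Lefpen.H534.PicLefTame
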