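import Groth.Agent.Lefpen.H534.TameAtFin
import Groth.Agent.Lefpen.H534.PicLefTame
import Groth.Agent.Lefpen.H370.TraitGeo
import Groth.Agent.Etrest.ConstBasic
import Groth.Statements.S0001

/-!
# Tameness of the direct images of a Lefschetz pencil (piece (LT) of S4030)

`tameAt_pencil`: for a Lefschetz pencil fibration `ρ : X' ⟶ P^1` the sheaves `R^q ρ_* Z/ℓ` are tame, in
the sense of `TameCover.TameAt`, at every point `t = c`.
-/

set_option autoImplicit false
universe u
open CategoryTheory CategoryTheory.Limits AlgebraicGeometry IsLocalRing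

namespace Groth.Agent.Lefpen.H534.PencilTame

open TameCover Groth.Agent.EtpbcA
open Groth.Agent.Lefpen.H713.RingPt Groth.Agent.Lefpen.H713.Trait1 Groth.Agent.Lefpen.H370.TraitGeo

/-- The statement (T): `R^q f_* Z/N` is constant on `Spec K₁` as soon as the automorphisms fixing `K₁`
act trivially on the cohomology of the geometric generic fibre. -/
def GalConst : Prop :=
  ∀ (R K Ω : Type u) [CommRing R] [IsDomain R] [IsDiscreteValuationRing R]
    (_ : EtCoh.IsStrictlyHenselianLocalRing R) [Field K] [Algebra R K] [IsFractionRing R K]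
    [Field Ω] [Algebra K Ω] [IsSepClosure K Ω] [Algebra R Ω] [IsScalarTower R K Ω]
    {X : Scheme.{u}} (f : X ⟶ Spec (CommRingCat.of R)) [IsProper f] (N : ℕ) (_ : 0 < N) (q : ℕ)
    (K₁ : IntermediateField K Ω) [FiniteDimensional K K₁]
    (_ : ∀ (σ : Ω ≃ₐ[K] Ω) [PreservesFiniteLimits (EtCoh.pull (VanCyc.galGeom f σ))],
      (∀ x ∈ K₁, σ x = x) → VanCyc.galH f σ (EtCoh.const X (ZMod N)) q = AddMonoidHom.id _),
    ∃ (M : Type) (_ : AddCommGroup M), Nonempty ((EtCoh.pull (VanCyc.toS R K₁)).obj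
      ((EtCoh.Rpush f q).obj (EtCoh.const X (ZMod N))) ≅ EtCoh.const (Spec (CommRingCat.of K₁)) M)

theorem isTorsion_const (X : Scheme.{u}) (n : ℕ) (hn : 0 < n) :
    EtCoh.IsTorsion (EtCoh.const X (ZMod n)) :=
  Etrest.ConstBasic.isTorsion_of_killedBy hn
    (Etrest.ConstBasic.killedBy_const X (ZMod n) n fun m => by
      rw [nsmul_eq_mul, ZMod.natCast_self, zero_mul])

/-- Tameness of a direct image at a point, from a strictly henselian trait. -/
theorem tameAt_of_trait {k : Type u} [Field k] {C X' : Scheme.{u}} (ρ : X' ⟶ C) [IsProper ρ] (x : C)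
    (h1 : type_of% @EtCoh.GrothFrozen.S0001.{u}) (hT : GalConst.{u})
    (R K Ω : Type u) [CommRing R] [IsDomain R] [IsDiscreteValuationRing R]
    (hR : EtCoh.IsStrictlyHenselianLocalRing R) [Field K] [Algebra R K] [IsFractionRing R K]
    [Field Ω] [Algebra K Ω] [hΩ : IsSepClosure K Ω] [Algebra R Ω] [IsScalarTower R K Ω]
    (φ : C.presheaf.stalk x →+* R) [IsLocalHom φ]
    (hφ : (maximalIdeal (C.presheaf.stalk x)).map φ = maximalIdeal R)
    {X : Scheme.{u}} (g : X ⟶ X') (f : X ⟶ Spec (CommRingCat.of R))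
    (h : IsPullback g f ρ (Spec.map (CommRingCat.ofHom φ) ≫ C.fromSpecStalk x))
    (N : ℕ) (hN : 0 < N) (q : ℕ) (K₁ : IntermediateField K Ω) [FiniteDimensional K K₁]
    (hdeg : ((Module.finrank K K₁ : ℕ) : k) ≠ 0)
    (hK : ∀ (σ : Ω ≃ₐ[K] Ω) [PreservesFiniteLimits (EtCoh.pull (VanCyc.galGeom f σ))],
      (∀ x ∈ K₁, σ x = x) → VanCyc.galH f σ (EtCoh.const X (ZMod N)) q = AddMonoidHom.id _) :
    TameAt k ((EtCoh.Rpush ρ q).obj (EtCoh.const X' (ZMod N))) x := by
  have hf : IsProper f := MorphismProperty.of_isPullback h inferInstance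
  obtain ⟨M, _, ⟨e⟩⟩ := hT R K Ω hR f N hN q K₁ hK
  have hsep : Algebra.IsSeparable K Ω := hΩ.separable
  have hsep1 : Algebra.IsSeparable K K₁ := Algebra.isSeparable_tower_bot_of_isSeparable K K₁ Ω
  obtain ⟨e1⟩ := (h1 X' C X (Spec (CommRingCat.of R)) ρ
    (Spec.map (CommRingCat.ofHom φ) ≫ C.fromSpecStalk x) f g h (EtCoh.const X' (ZMod N))
    (isTorsion_const X' N hN)).1 q
  refine tameAt_of_finite R K K₁ hR φ hφ hdeg (N := M) ?_
  exact (PullFLC.pullComp (VanCyc.toS R K₁)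
      (Spec.map (CommRingCat.ofHom φ) ≫ C.fromSpecStalk x)).symm.app _ ≪≫
    (EtCoh.pull (VanCyc.toS R K₁)).mapIso (e1 ≪≫
      (EtCoh.Rpush f q).mapIso (Sga4B.ConstLC.pullConstIso g (ZMod N))) ≪≫ e

section trait

variable {k : Type u} [Field k] {c : k}

/-- The trait dominates the local ring of the line. -/
theorem exists_stalk_map {R : Type u} [CommRing R] [IsLocalRing R] [Algebra k R] {t : R}
    (h : IsTrait k c R t) :
    ∃ φ : (CohB1.ProjSpace 1 k).presheaf.stalk (H713.Trait1.pt k c) →+* R, IsLocalHom φ ∧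
      (maximalIdeal ((CohB1.ProjSpace 1 k).presheaf.stalk (H713.Trait1.pt k c))).map φ = maximalIdeal R ∧
      Spec.map (CommRingCat.ofHom φ) ≫ (CohB1.ProjSpace 1 k).fromSpecStalk (H713.Trait1.pt k c) =
        ringPt k R t := by
  have hpt : ringPt k R t (closedPoint R) = H713.Trait1.pt k c := by
    have h1 := resPt_ringPt h.mem
    have h2 := congrArg (fun g => g (closedPoint (ResidueField R))) h1
    change ringPt k R t (Etrest.StrictLoc.resPt R (closedPoint (ResidueField R))) =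
      ringPt k k c (Etrest.StrictLoc.spm (algebraMap k (ResidueField R))
        (closedPoint (ResidueField R))) at h2
    rw [Etrest.StrictLoc.resPt_closedPoint] at h2
    rw [h2, H713.Trait1.pt]
    congr 1
    exact @Subsingleton.elim (PrimeSpectrum k) _ _ _
  obtain ⟨φ, hφ1, hφ2⟩ := Etrest.StrictLoc.exists_stalk_hom (ringPt k R t) _ hpt
  refine ⟨φ, hφ1, ?_, hφ2⟩
  obtain ⟨-, -, ψ, hψ, hm⟩ := exists_stalk_data k c
  have h3 : φ.comp ψ = ev k R t := by
    have h4 : Spec.map (CommRingCat.ofHom φ) ≫ Spec.map (CommRingCat.ofHom ψ) =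
        Spec.map (CommRingCat.ofHom (ev k R t)) := by
      rw [← cancel_mono (Groth.Agent.Sga5.ProjSmooth.chart 1 k 0), Category.assoc, hψ, hφ2]
      rfl
    rw [← Spec.map_comp] at h4
    exact congrArg CommRingCat.Hom.hom (Spec.map_injective h4)
  rw [hm, Ideal.map_span, Set.image_singleton, h.maxIdeal]
  have h5 : φ (ψ (MvPolynomial.X 0 - MvPolynomial.C c)) = t - algebraMap k R c := by
    change (φ.comp ψ) _ = _
    rw [h3, map_sub, ev_X, ev_C]
  rw [h5]

end trait

/-- **(LT)** The direct images of a Lefschetz pencil are tame. -/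
theorem tameAt_pencil {k : Type u} [Field k] [IsAlgClosed k] {r n d : ℕ} (hn : 1 ≤ n)
    {X X' : Scheme.{u}} (i : X ⟶ CohB1.ProjSpace r k) [IsClosedImmersion i] [IrreducibleSpace X]
    [SmoothOfRelativeDimension n (i ≫ CohB1.ProjSpace.toSpec r k)]
    (hpar : Even n ∨ ringChar k ≠ 2) {F H : LefPen.Form r k d}
    (hL : LefPen.IsLefschetzPencil k n i d F H) {b : X' ⟶ X} {ρ : X' ⟶ CohB1.ProjSpace 1 k}
    (hρ : LefMon.IsPencilFibration i F H b ρ) (ℓ : ℕ) (hℓ : (ℓ : k) ≠ 0) (c : k) (q : ℕ)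
    (h1 : type_of% @EtCoh.GrothFrozen.S0001.{u})
    (h98 : type_of% @VanCyc.GrothFrozen.S3998.{u})
    (h01 : type_of% @VanCyc.GrothFrozen.S4001.{u})
    (h02 : type_of% @VanCyc.GrothFrozen.S4002.{u}) (hT : GalConst.{u}) :
    TameAt k ((EtCoh.Rpush ρ q).obj (EtCoh.const X' (ZMod ℓ)))
      (Groth.Agent.Lefpen.H723.P1Pt.pt 0 c default) := by
  have hρp : IsProper ρ := H723.PencilGeom.isProper_rho hρ
  obtain ⟨R, _, _, _, _, t, htr⟩ := exists_isTrait k c
  let K : Type u := FractionRing R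
  let Ω : Type u := SeparableClosure K
  have hΩ : IsSepClosure K Ω := inferInstance
  have hR : EtCoh.IsStrictlyHenselianLocalRing R := ⟨htr.strictLoc.henselian, htr.strictLoc.sepClosed⟩
  have hfp : IsProper (fR ρ R t) := isProper_fR hρ R t
  have hff : Flat (fR ρ R t) := flat_fR hρ hL R t
  have hη : SmoothOfRelativeDimension (n - 1) (VanCyc.fibStr R (fR ρ R t) K) :=
    relDim_generic hρ hL hn htr K
  obtain ⟨Sing, U, hSc, hSq, hU, -, hUs, -, -⟩ := exists_sing hn hL hρ htr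
  have hu : ∀ m : ℕ, (m : k) ≠ 0 → IsUnit (m : R) := by
    intro m hm
    have h2 := (isUnit_iff_ne_zero.2 hm).map (algebraMap k R)
    rwa [map_natCast] at h2
  have hu' : ∀ m : ℕ, IsUnit (m : R) → (m : k) ≠ 0 := by
    intro m hm h0
    have h2 := map_natCast (algebraMap k R) m
    rw [h0, map_zero] at h2
    rw [← h2] at hm
    exact not_isUnit_zero hm
  have hpar' : Odd (n - 1) ∨ IsUnit (2 : R) := by
    rcases hpar with h | h
    · left
      rcases h with ⟨a, ha⟩
      exact ⟨a - 1, by omega⟩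
    · right
      have h2 : ((2 : ℕ) : k) ≠ 0 := by
        intro h0
        have h3 := (ringChar.spec k 2).1 h0
        rcases (Nat.dvd_prime Nat.prime_two).1 h3 with h4 | h4
        · have h5 : ((1 : ℕ) : k) = 0 := (ringChar.spec k 1).2 (by rw [h4])
          rw [Nat.cast_one] at h5
          exact one_ne_zero h5
        · exact h h4
      have h3 := hu 2 h2
      rwa [Nat.cast_ofNat] at h3
  obtain ⟨K₁, hfd, hdeg, hK⟩ := PicLefTame.exists_ext h98 h01 h02 R K Ω hR (fR ρ R t) (n - 1) hη Sing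
    hSc hSq U hU hUs ℓ (hu ℓ hℓ) hpar'
  obtain ⟨φ, hφ1, hφ2, hφ3⟩ := exists_stalk_map htr
  have hpt : Groth.Agent.Lefpen.H723.P1Pt.pt 0 c default = H713.Trait1.pt k c := by
    rw [← Groth.Agent.Lefpen.H723.P1Pt.fieldPt_eq, H713.RingPt.fieldPt_eq, H713.Trait1.pt]
    congr 1
    exact @Subsingleton.elim (PrimeSpectrum k) _ _ _
  rw [hpt]
  have hpb : IsPullback (qR ρ R t) (fR ρ R t) ρ (Spec.map (CommRingCat.ofHom φ) ≫
      (CohB1.ProjSpace 1 k).fromSpecStalk (H713.Trait1.pt k c)) := by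
    rw [hφ3]
    exact isPullback_fR ρ R t
  exact tameAt_of_trait ρ (H713.Trait1.pt k c) h1 hT R K Ω hR φ hφ2 (qR ρ R t) (fR ρ R t) hpb ℓ
    (Nat.pos_of_ne_zero (by rintro rfl; exact hℓ Nat.cast_zero)) q K₁ (hu' _ hdeg)
    (fun σ _ hσ => hK q σ hσ)

end Groth.Agent.Lefpen.H534.PencilTame
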