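import Groth.Agent.Lefpen.H534.IsoTorsor
import Groth.Agent.Etcore.StalkUnit
import Mathlib.FieldTheory.SeparableClosure
import Mathlib.FieldTheory.Galois.Infinite
import Mathlib.AlgebraicGeometry.Morphisms.Flat

/-!
# Rational points of the Galois covering over a field where the sheaf becomes constant

* `exists_fac`: Galois descent for morphisms `Spec Ω ⟶ X`;
* `germ_eq_of_const`: germs of a section of a constant sheaf only depend on the underlying point;
* `germ_eq_of_pull_const`: the same for a sheaf whose inverse image is constant;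
* `exists_pt`: if the inverse image of `F` along `τ : Spec L ⟶ X` is constant, then `τ` lifts to the
  minimal Galois covering `D.A` trivialising `F`.
-/

set_option autoImplicit false
universe u

open CategoryTheory CategoryTheory.Limits AlgebraicGeometry Opposite

namespace Groth.Agent.Lefpen.H534.PointDescent

open Groth.Agent.EtpbcA.Germ Groth.Agent.Etbase.StalkPull

/-- Galois descent for field valued points. -/
theorem exists_fac {X : Scheme.{u}} {L Ω : Type u} [Field L] [Field Ω] [Algebra L Ω] [IsGalois L Ω]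
    (w : Spec (CommRingCat.of Ω) ⟶ X)
    (h : ∀ σ : Ω ≃ₐ[L] Ω, Spec.map (CommRingCat.ofHom (σ : Ω →+* Ω)) ≫ w = w) :
    ∃ a : Spec (CommRingCat.of L) ⟶ X,
      Spec.map (CommRingCat.ofHom (algebraMap L Ω)) ≫ a = w := by
  obtain ⟨⟨x, φ⟩, rfl⟩ := (Scheme.SpecToEquivOfField Ω X).symm.surjective w
  change ∀ σ : Ω ≃ₐ[L] Ω, Spec.map (CommRingCat.ofHom (σ : Ω →+* Ω)) ≫
    Spec.map φ ≫ X.fromSpecResidueField x = Spec.map φ ≫ X.fromSpecResidueField x at h
  change ∃ a : Spec (CommRingCat.of L) ⟶ X,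
      Spec.map (CommRingCat.ofHom (algebraMap L Ω)) ≫ a = Spec.map φ ≫ X.fromSpecResidueField x
  have h1 : ∀ (σ : Ω ≃ₐ[L] Ω) (b : X.residueField x), σ (φ.hom b) = φ.hom b := by
    intro σ b
    have h2 := h σ
    rw [← Category.assoc, ← Spec.map_comp, cancel_mono, Spec.map_inj] at h2
    exact congrArg (fun g => (ConcreteCategory.hom g) b) h2
  have h3 : ∀ b : X.residueField x, ∃ c : L, algebraMap L Ω c = φ.hom b := fun b =>
    (InfiniteGalois.mem_range_algebraMap_iff_fixed (φ.hom b)).2 fun σ => h1 σ b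
  choose c hc using h3
  have hinj : Function.Injective (algebraMap L Ω) := (algebraMap L Ω).injective
  let ψ : X.residueField x →+* L :=
    { toFun := c
      map_one' := hinj (by rw [hc, map_one, map_one])
      map_mul' := fun a b => hinj (by rw [hc, map_mul, map_mul, hc, hc])
      map_zero' := hinj (by rw [hc, map_zero, map_zero])
      map_add' := fun a b => hinj (by rw [hc, map_add, map_add, hc, hc]) }
  refine ⟨Spec.map (CommRingCat.ofHom ψ) ≫ X.fromSpecResidueField x, ?_⟩
  rw [← Category.assoc, ← Spec.map_comp]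
  congr 2
  ext b
  exact hc b

instance epi_specMap {L Ω : Type u} [Field L] [Field Ω] (i : L →+* Ω) :
    Epi (Spec.map (CommRingCat.ofHom i)) := by
  have h1 : Flat (Spec.map (CommRingCat.ofHom i)) := by
    rw [Flat.SpecMap_iff]
    let _ := i.toAlgebra
    change Module.Flat L Ω
    infer_instance
  have h2 : Surjective (Spec.map (CommRingCat.ofHom i)) := by
    constructor
    intro x
    exact ⟨default, Subsingleton.elim _ _⟩
  exact Flat.epi_of_flat_of_surjective _

section germs

variable {X : Scheme.{u}} {Ω : Type u} [Field Ω] [IsSepClosed Ω]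

/-- The geometric points of the final object. -/
theorem fib_top_subsingleton (ξ : Spec (CommRingCat.of Ω) ⟶ X) : Subsingleton (Fib ξ (EtCoh.top X)) := by
  constructor
  intro a b
  apply Over.OverMorphism.ext
  have h1 : a.left ≫ 𝟙 X = ξ := Over.w a
  have h2 : b.left ≫ 𝟙 X = ξ := Over.w b
  exact (Category.comp_id _).symm.trans (h1.trans (h2.symm.trans (Category.comp_id _)))

/-- The germs of a section of a constant sheaf only depend on the underlying point. -/
theorem germ_eq_of_const {H : EtCoh.Ab X} {N : Type} [AddCommGroup N] (e : H ≅ EtCoh.const X N)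
    (ξ : Spec (CommRingCat.of Ω) ⟶ X) {W : X.Etale} (w₁ w₂ : Fib ξ W) (h : pt ξ w₁ = pt ξ w₂)
    (s : EtCoh.sect H W) : germ ξ H w₁ s = germ ξ H w₂ s := by
  let P : (X.Etale)ᵒᵖ ⥤ AddCommGrpCat.{u + 1} :=
    (Functor.const (X.Etale)ᵒᵖ).obj (AddCommGrpCat.of (ULift.{u + 1} N))
  let α : P ⟶ H.obj := toSheafify X.smallEtaleTopology P ≫ e.inv.hom
  have hα : X.smallEtaleTopology.W α := by
    have h1 := X.smallEtaleTopology.W_toSheafify P
    have h2 : IsIso e.inv.hom := inferInstance
    exact MorphismProperty.RespectsIso.postcomp _ e.inv.hom _ h1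
  have i2 : Presheaf.IsLocallySurjective X.smallEtaleTopology α := hα.isLocallySurjective
  have h1 := Presheaf.imageSieve_mem X.smallEtaleTopology α (U := op W) s
  rw [mem_iff] at h1
  obtain ⟨V, g, ⟨n, hn⟩, v, hv⟩ := h1 (pt ξ w₁)
  obtain ⟨v₁, hv₁, -⟩ := exists_lift ξ g w₁ v hv
  obtain ⟨v₂, hv₂, -⟩ := exists_lift ξ g w₂ v (hv.trans h)
  let T : X.Etale := EtCoh.top X
  let t : V ⟶ T := MorphismProperty.Over.homMk V.hom (Category.comp_id _) trivial
  have hnat : α.app (op V) n = H.obj.map t.op (α.app (op T) n) := by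
    have h3 := α.naturality t.op
    exact congrArg (fun g => (ConcreteCategory.hom g) n) h3
  have hT := fib_top_subsingleton ξ
  rw [← hv₁, ← hv₂, ← germ_res, ← germ_res, ← hn, hnat, germ_res, germ_res,
    Subsingleton.elim (fmap ξ t v₁) (fmap ξ t v₂)]

/-- The germs of a section only depend on the underlying point of the base change, for a sheaf whose
inverse image is constant. -/
theorem germ_eq_of_pull_const {Y : Scheme.{u}} (τ : Y ⟶ X) {F : EtCoh.Ab X} {N : Type}
    [AddCommGroup N] (e : (EtCoh.pull τ).obj F ≅ EtCoh.const Y N)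
    (ξ : Spec (CommRingCat.of Ω) ⟶ Y) {W : X.Etale} (w₁ w₂ : Fib (ξ ≫ τ) W)
    (h : pt ξ (U := (EtCoh.bc τ).obj W) ((fiberIso τ ξ).hom.app W w₁) =
      pt ξ (U := (EtCoh.bc τ).obj W) ((fiberIso τ ξ).hom.app W w₂))
    (s : EtCoh.sect F W) : germ (ξ ≫ τ) F w₁ s = germ (ξ ≫ τ) F w₂ s := by
  have h1 := Groth.Agent.Etcore.StalkUnit.stalkPullIso_hom_germ τ ξ F w₁ s
  have h2 := Groth.Agent.Etcore.StalkUnit.stalkPullIso_hom_germ τ ξ F w₂ s
  have h3 := germ_eq_of_const e ξ _ _ h (((EtCoh.pullPushAdj τ).unit.app F).hom.app (op W) s)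
  apply (ConcreteCategory.bijective_of_isIso ((stalkPullIso τ ξ).hom.app F)).1
  exact h1.trans (h3.trans h2.symm)

end germs

/-- **If the inverse image of `F` along a field valued point `τ` is constant, then `τ` lifts to the
minimal Galois covering trivialising `F`.** -/
theorem exists_pt {X : Scheme.{u}} [ConnectedSpace X] {F : EtCoh.Ab X} (D : IsoTorsor.Gal F)
    {L : Type u} [Field L] (τ : Spec (CommRingCat.of L) ⟶ X) {N : Type} [AddCommGroup N]
    (e : (EtCoh.pull τ).obj F ≅ EtCoh.const (Spec (CommRingCat.of L)) N) :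
    ∃ a : Spec (CommRingCat.of L) ⟶ D.A.left, a ≫ D.A.hom = τ := by
  let Ω : Type u := SeparableClosure L
  have hΩ : IsSepClosed Ω := inferInstance
  have hG : IsGalois L Ω := inferInstance
  let ξ : Spec (CommRingCat.of Ω) ⟶ Spec (CommRingCat.of L) :=
    Spec.map (CommRingCat.ofHom (algebraMap L Ω))
  have hA : Nonempty D.A.left := inferInstance
  have hs : Surjective (D.A.hom : D.A.left ⟶ X) := by
    let h : D.A.left ⟶ X := D.A.hom
    have h1 : Etale h := D.A.prop
    have h2 : IsFinite h := D.isFinite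
    have h3 : Set.range h = Set.univ :=
      IsClopen.eq_univ ⟨h.isClosedMap.isClosed_range, h.isOpenMap.isOpen_range⟩
        (Set.range_nonempty _)
    exact ⟨Set.range_eq_univ.mp h3⟩
  obtain ⟨y, hy⟩ := hs.surj ((ξ ≫ τ) default)
  obtain ⟨l, hl, -⟩ := Scheme.exists_fac_of_etale_of_isSepClosed (D.A.hom : D.A.left ⟶ X) (ξ ≫ τ) y hy
  let w : Fib (ξ ≫ τ) D.A := Over.homMk l hl
  have hσξ : ∀ σ : Ω ≃ₐ[L] Ω, Spec.map (CommRingCat.ofHom (σ : Ω →+* Ω)) ≫ ξ = ξ := by
    intro σ
    change Spec.map _ ≫ Spec.map _ = _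
    rw [← Spec.map_comp]
    congr 1
    exact CommRingCat.hom_ext (RingHom.ext fun c => σ.commutes c)
  have hw : ∀ σ : Ω ≃ₐ[L] Ω, Spec.map (CommRingCat.ofHom (σ : Ω →+* Ω)) ≫ l = l := by
    intro σ
    let w' : Fib (ξ ≫ τ) D.A := Over.homMk (Spec.map (CommRingCat.ofHom (σ : Ω →+* Ω)) ≫ l) (by
      change (Spec.map _ ≫ l) ≫ D.A.hom = ξ ≫ τ
      rw [Category.assoc, hl, ← Category.assoc, hσξ])
    have h1 : w' = w := by
      apply D.eq_of_germ (ξ ≫ τ)
      intro m
      refine germ_eq_of_pull_const τ e ξ w' w ?_ (D.φ m)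
      let b : Spec (CommRingCat.of Ω) ⟶ pullback D.A.hom τ := pullback.lift l ξ hl
      have h2 : pullback.lift (Spec.map (CommRingCat.ofHom (σ : Ω →+* Ω)) ≫ l) ξ (by
          rw [Category.assoc, hl, ← Category.assoc, hσξ]) =
          Spec.map (CommRingCat.ofHom (σ : Ω →+* Ω)) ≫ b := by
        apply pullback.hom_ext
        · rw [pullback.lift_fst, Category.assoc, pullback.lift_fst]
        · rw [pullback.lift_snd, Category.assoc, pullback.lift_snd, hσξ]
      change (pullback.lift (Spec.map (CommRingCat.ofHom (σ : Ω →+* Ω)) ≫ l) ξ _ :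
        Spec (CommRingCat.of Ω) ⟶ pullback D.A.hom τ) default = b default
      rw [h2, Scheme.Hom.comp_apply]
      congr 1
      exact Subsingleton.elim _ _
    exact congrArg (fun v : Fib (ξ ≫ τ) D.A => v.left) h1
  obtain ⟨a, ha⟩ := exists_fac l hw
  refine ⟨a, ?_⟩
  rw [← cancel_epi (Spec.map (CommRingCat.ofHom (algebraMap L Ω))), ← Category.assoc, ha]
  exact hl

end Groth.Agent.Lefpen.H534.PointDescent
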