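import Mathlib.NumberTheory.RamificationInertia.Galois
import Mathlib.RingTheory.RamificationInertia.Ramification
import Mathlib.RingTheory.RamificationInertia.Inertia
import Mathlib.FieldTheory.IsAlgClosed.Basic
import Mathlib.RingTheory.DedekindDomain.Basic

/-!
# The order of the stabiliser divides the ramification index of any dominating local ring
-/

set_option autoImplicit false

open IsLocalRing
open scoped Pointwise

namespace Groth.Agent.Lefpen.H534.RamAlg

/-- An extension of an algebraically closed residue field has inertia degree one. -/
theorem inertiaDeg_eq_one {A B : Type*} [CommRing A] [CommRing B] [Algebra A B]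
    [Module.Finite A B] (p : Ideal A) [p.IsPrime] (P : Ideal B) [P.IsPrime] [P.LiesOver p]
    (h : IsAlgClosed p.ResidueField) : P.inertiaDeg A = 1 := by
  let := Localization.AtPrime.algebraOfLiesOver p P
  rw [Ideal.inertiaDeg_eq p P]
  have h1 : Module.Finite p.ResidueField P.ResidueField := by
    have h2 := Ideal.inertiaDeg_pos (q := P) (R := A)
    rw [Ideal.inertiaDeg_eq p P] at h2
    exact Module.finite_of_finrank_pos h2
  have h3 : Algebra.IsIntegral p.ResidueField P.ResidueField := inferInstance
  have h4 := IsAlgClosed.algebraMap_bijective_of_isIntegral (k := p.ResidueField)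
    (K := P.ResidueField)
  exact (LinearEquiv.finrank_eq (LinearEquiv.ofBijective
    (Algebra.linearMap p.ResidueField P.ResidueField) h4)).symm.trans (Module.finrank_self _)

/-- **The order of the stabiliser divides the ramification index.** -/
theorem card_stabilizer_dvd {A B R G : Type*} [CommRing A] [IsDomain A] [CommRing B] [IsDomain B]
    [Algebra A B] [Module.Finite A B] [Module.Flat A B] [Group G] [Finite G]
    [MulSemiringAction G B] [IsGaloisGroup G A B] [CommRing R] [IsLocalRing R] [Algebra A R]
    [Algebra B R] [IsScalarTower A B R] [Module.Flat B R] (p : Ideal A) [p.IsPrime] (P : Ideal B)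
    [P.IsPrime] [P.LiesOver p] [(maximalIdeal R).LiesOver P] (h : IsAlgClosed p.ResidueField) :
    Nat.card (MulAction.stabilizer G P) ∣ (maximalIdeal R).ramificationIdx A := by
  have h0 : PerfectField p.ResidueField := inferInstance
  rw [Ideal.card_stabilizer_eq p P, Ideal.ramificationIdxIn_eq_ramificationIdx p P G,
    Ideal.inertiaDegIn_eq_inertiaDeg p P G, inertiaDeg_eq_one p P h, mul_one]
  exact Ideal.ramificationIdx_below_dvd P (maximalIdeal R)

/-- The ramification index of a discrete valuation ring over a subring. -/
theorem ramificationIdx_eq {A R : Type*} [CommRing A] [CommRing R] [IsDomain R]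
    [IsDiscreteValuationRing R] [Algebra A R] (p : Ideal A) [(maximalIdeal R).LiesOver p] (e : ℕ)
    (he : p.map (algebraMap A R) = maximalIdeal R ^ e) : (maximalIdeal R).ramificationIdx A = e := by
  let S := Localization.AtPrime (maximalIdeal R)
  have hS : IsDiscreteValuationRing S := by
    have : IsDedekindDomain R := inferInstance
    exact IsLocalization.AtPrime.isDiscreteValuationRing_of_dedekind_domain R
      (IsDiscreteValuationRing.not_a_field R) S
  rw [Ideal.ramificationIdx_eq p (maximalIdeal R), IsScalarTower.algebraMap_eq A R,
    ← Ideal.map_map, he, Ideal.map_pow, IsLocalization.AtPrime.map_eq_maximalIdeal,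
    hS.length_quotient_pow_maximalIdeal, ENat.toNat_natCast]

end Groth.Agent.Lefpen.H534.RamAlg
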