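import Groth.Agent.Lefpen.H534.RamAlg
import Groth.Agent.Sga5.H854.Trans
import Groth.Agent.CurvesB.SmoothCurveFacts
import Groth.Agent.Sga3C.DimTop
import Groth.Agent.Sga4B.CurveComp

/-!
# Stabilisers for Galois coverings of curves and ramification

`C` a smooth curve over an algebraically closed field, `q : C' ⟶ C` finite surjective, `C'` smooth and
integral, `G` acting on `C'` over `C` such that `q` is a Galois covering over the nonempty open `U`.
If `c' : Spec R ⟶ C'` is a morphism with `R` a discrete valuation ring dominating `O_{C,x}` with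
ramification index `e`, then the order of the stabiliser of the image of the closed point divides `e`.
-/

set_option autoImplicit false
universe u
open CategoryTheory CategoryTheory.Limits AlgebraicGeometry Opposite TopologicalSpace
open scoped Pointwise

namespace Groth.Agent.Lefpen.H534.StabRam

open Groth.Agent.Sga5.H854.Trans

variable {k : Type u} [Field k] {C C' U : Scheme.{u}}
  (f : C ⟶ Spec (CommRingCat.of k)) (q : C' ⟶ C) (j : U ⟶ C)

variable {G : Type} [Group G] (ρ : G →* Aut C') (hρ : ∀ g : G, (ρ g).hom ≫ q = q)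

theorem smul_def (V : C.Opens) (g : G) (b : Γ(C', q ⁻¹ᵁ V)) :
    letI := secAction q ρ hρ V
    g • b = (ρ g⁻¹).hom.appLE (q ⁻¹ᵁ V) (q ⁻¹ᵁ V)
      (le_preimage q (fun g => (ρ g).hom) hρ V g⁻¹) b := rfl

theorem inv_smul_def (V : C.Opens) (g : G) (b : Γ(C', q ⁻¹ᵁ V)) :
    letI := secAction q ρ hρ V
    g⁻¹ • b = (ρ g).hom.appLE (q ⁻¹ᵁ V) (q ⁻¹ᵁ V)
      (le_preimage q (fun g => (ρ g).hom) hρ V g) b := by
  have : ∀ (φ : C' ⟶ C') (h : φ = (ρ g).hom) (e : q ⁻¹ᵁ V ≤ φ ⁻¹ᵁ (q ⁻¹ᵁ V)),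
      φ.appLE (q ⁻¹ᵁ V) (q ⁻¹ᵁ V) e b = (ρ g).hom.appLE (q ⁻¹ᵁ V) (q ⁻¹ᵁ V)
        (le_preimage q (fun g => (ρ g).hom) hρ V g) b := by
    rintro _ rfl e
    rfl
  rw [smul_def]
  exact this _ (by rw [inv_inv]) _

/-- The action on points is the action on prime ideals. -/
theorem apply_fromSpec (V : C.Opens) (hW : IsAffineOpen (q ⁻¹ᵁ V)) (g : G)
    (p : PrimeSpectrum Γ(C', q ⁻¹ᵁ V)) :
    letI := secAction q ρ hρ V
    ∃ h : (g • p.asIdeal).IsPrime, (ρ g).hom (hW.fromSpec p) = hW.fromSpec ⟨g • p.asIdeal, h⟩ := by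
  let _ : MulSemiringAction G Γ(C', q ⁻¹ᵁ V) := secAction q ρ hρ V
  have h1 := hW.SpecMap_appLE_fromSpec (ρ g).hom hW (le_preimage q (fun g => (ρ g).hom) hρ V g)
  have h2 := congrArg (fun g => (ConcreteCategory.hom g.base) p) h1
  have h3 : (PrimeSpectrum.comap ((ρ g).hom.appLE (q ⁻¹ᵁ V) (q ⁻¹ᵁ V)
      (le_preimage q (fun g => (ρ g).hom) hρ V g)).hom p).asIdeal = g • p.asIdeal := by
    ext b
    rw [Ideal.mem_pointwise_smul_iff_inv_smul_mem, inv_smul_def]
    rfl
  refine ⟨by rw [← h3]; exact (PrimeSpectrum.comap _ p).isPrime, ?_⟩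
  refine h2.symm.trans ?_
  exact congrArg hW.fromSpec (PrimeSpectrum.ext h3)

/-- Fixing a point means fixing the corresponding prime ideal. -/
theorem apply_eq_iff (V : C.Opens) (hW : IsAffineOpen (q ⁻¹ᵁ V)) (g : G)
    (p : PrimeSpectrum Γ(C', q ⁻¹ᵁ V)) :
    letI := secAction q ρ hρ V
    (ρ g).hom (hW.fromSpec p) = hW.fromSpec p ↔ g • p.asIdeal = p.asIdeal := by
  let _ : MulSemiringAction G Γ(C', q ⁻¹ᵁ V) := secAction q ρ hρ V
  obtain ⟨h, e⟩ := apply_fromSpec q ρ hρ V hW g p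
  rw [e]
  constructor
  · intro h1
    exact congrArg PrimeSpectrum.asIdeal (hW.fromSpec.isOpenEmbedding.injective h1)
  · intro h1
    exact congrArg hW.fromSpec (PrimeSpectrum.ext h1)

/-- The group is the Galois group of the functions over an affine open. -/
theorem isGaloisGroup [IsAlgClosed k] [LocallyOfFiniteType f] [IsIntegral C] [IsIntegral C']
    [IsFinite q] [Surjective q] [IsOpenImmersion j] [Nonempty U] [Finite G]
    (h : Etale (pullback.snd q j)) (hC : ∀ x : C, IsIntegrallyClosed (C.presheaf.stalk x))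
    (hfree : ∀ y : C', IsClosed ({y} : Set C') → q y ∈ Set.range j →
      ∀ g : G, (ρ g).hom y = y → g = 1)
    (htr : ∀ y₁ y₂ : C', IsClosed ({y₁} : Set C') → IsClosed ({y₂} : Set C') →
      q y₁ ∈ Set.range j → q y₁ = q y₂ → ∃ g : G, (ρ g).hom y₁ = y₂)
    (V : C.Opens) (hVa : IsAffineOpen V) [Nonempty V] :
    letI := secAction q ρ hρ V
    letI := (q.app V).hom.toAlgebra
    IsGaloisGroup G Γ(C, V) Γ(C', q ⁻¹ᵁ V) := by
  let _ : MulSemiringAction G Γ(C', q ⁻¹ᵁ V) := secAction q ρ hρ V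
  let _ : Algebra Γ(C, V) Γ(C', q ⁻¹ᵁ V) := (q.app V).hom.toAlgebra
  have hW : IsAffineOpen (q ⁻¹ᵁ V) := hVa.preimage q
  have hinv : Algebra.IsInvariant Γ(C, V) Γ(C', q ⁻¹ᵁ V) G := ⟨fun b hb =>
    mem_range f q j (fun g => (ρ g).hom) hρ h hC htr V hVa b fun g =>
      (inv_smul_def q ρ hρ V g b).symm.trans (hb g⁻¹)⟩
  have hcomm : SMulCommClass G Γ(C, V) Γ(C', q ⁻¹ᵁ V) := ⟨fun g a b => by
    rw [Algebra.smul_def, Algebra.smul_def, smul_mul']
    congr 1
    rw [smul_def]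
    change (q.app V ≫ (ρ g⁻¹).hom.appLE (q ⁻¹ᵁ V) (q ⁻¹ᵁ V) _) a = q.app V a
    rw [← Scheme.Hom.comp_appLE]
    have : ∀ (q' : C' ⟶ C) (e : q' = q) (h : q ⁻¹ᵁ V ≤ q' ⁻¹ᵁ V),
        q'.appLE V (q ⁻¹ᵁ V) h a = q.app V a := by
      rintro _ rfl h
      rw [Scheme.Hom.appLE_eq_app]
    exact this _ (hρ _) (by rw [hρ])⟩
  refine ⟨⟨fun {g₁ g₂} hg => ?_⟩, hcomm, hinv⟩
  -- a closed point over the étale locus
  have hJ : JacobsonSpace C' := by
    have : LocallyOfFiniteType (q ≫ f) := inferInstance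
    have : JacobsonSpace (Spec (CommRingCat.of k)) := inferInstance
    exact LocallyOfFiniteType.jacobsonSpace (q ≫ f)
  obtain ⟨x, hx⟩ : ((V : Set C) ∩ j.opensRange).Nonempty := by
    obtain ⟨⟨v, hv⟩⟩ := (inferInstance : Nonempty V)
    obtain ⟨u⟩ := ‹Nonempty U›
    exact nonempty_preirreducible_inter V.2 j.opensRange.2 ⟨v, hv⟩ ⟨j u, ⟨u, rfl⟩⟩
  obtain ⟨y, hy⟩ := q.surjective x
  let O : C'.Opens := q ⁻¹ᵁ (V ⊓ j.opensRange)
  have hyO : y ∈ O := by
    change q y ∈ V ⊓ j.opensRange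
    rw [hy]
    exact hx
  obtain ⟨z, hzO, hz⟩ := (nonempty_inter_closedPoints (Z := (O : Set C')) ⟨y, hyO⟩
    O.2.isLocallyClosed)
  have hz1 : z ∈ Set.range hW.fromSpec := by
    rw [hW.range_fromSpec]
    exact hzO.1
  obtain ⟨p, rfl⟩ := hz1
  have h5 : (g₂⁻¹ * g₁) • p.asIdeal = p.asIdeal := by
    ext b
    rw [Ideal.mem_pointwise_smul_iff_inv_smul_mem]
    have h6 : (g₂⁻¹ * g₁)⁻¹ • b = b := by
      rw [mul_inv_rev, inv_inv, mul_smul, inv_smul_eq_iff]
      exact (hg b).symm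
    rw [h6]
  have h6 := hfree (hW.fromSpec p) hz hzO.2 (g₂⁻¹ * g₁)
    ((apply_eq_iff q ρ hρ V hW (g₂⁻¹ * g₁) p).2 h5)
  exact (inv_mul_eq_one.1 h6).symm

/-- The residue fields at the maximal ideals of an algebra of finite type over an algebraically
closed field are algebraically closed. -/
theorem isAlgClosed_residueField {k : Type u} [Field k] [IsAlgClosed k] {T : Type u} [CommRing T]
    [Algebra k T] [Algebra.FiniteType k T] (m : Ideal T) [hm : m.IsMaximal] :
    IsAlgClosed m.ResidueField := by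
  let _ : Field (T ⧸ m) := Ideal.Quotient.field m
  have h1 : Algebra.FiniteType k (T ⧸ m) := Algebra.FiniteType.trans (S := T) inferInstance
    (Algebra.FiniteType.of_surjective (Ideal.Quotient.mkₐ T m) (Ideal.Quotient.mkₐ_surjective T m))
  have h2 : Module.Finite k (T ⧸ m) := finite_of_finite_type_of_isJacobsonRing _ _
  have h3 : Function.Bijective (algebraMap k (T ⧸ m)) :=
    IsAlgClosed.algebraMap_bijective_of_isIntegral
  exact IsAlgClosed.of_ringEquiv k _ ((RingEquiv.ofBijective _ h3).trans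
    (RingEquiv.ofBijective _ m.bijective_algebraMap_quotient_residueField))

/-- A morphism from a local scheme factors through the spectrum of the functions over any affine open
containing the image of the closed point. -/
theorem exists_fac_fromSpec {X : Scheme.{u}} {R : Type u} [CommRing R] [IsLocalRing R]
    (c : Spec (CommRingCat.of R) ⟶ X) (W : X.Opens) (hW : IsAffineOpen W)
    (h : c (IsLocalRing.closedPoint R) ∈ W) :
    ∃ θ : Γ(X, W) ⟶ CommRingCat.of R, Spec.map θ ≫ hW.fromSpec = c := by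
  have h1 : c ⁻¹ᵁ W = ⊤ :=
    (IsLocalRing.closedPoint_mem_iff (R := R) (c ⁻¹ᵁ W)).1 h
  have h2 : Set.range c ⊆ Set.range hW.fromSpec := by
    rw [hW.range_fromSpec]
    rintro _ ⟨z, rfl⟩
    have h3 : z ∈ c ⁻¹ᵁ W := by rw [h1]; trivial
    exact h3
  obtain ⟨θ, hθ⟩ := Spec.map_surjective (IsOpenImmersion.lift hW.fromSpec c h2)
  exact ⟨θ, by rw [hθ, IsOpenImmersion.lift_fac]⟩

include hρ in
open IsLocalRing in
/-- **The order of the stabiliser divides the ramification index of any discrete valuation ring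
dominating the local ring downstairs and mapping to the covering.** -/
theorem card_stab_dvd [IsAlgClosed k] [Smooth f] [IsIntegral C] [IsIntegral C']
    [IsFinite q] [Surjective q] [Smooth (q ≫ f)] [IsOpenImmersion j] [Nonempty U] [Finite G]
    (hd : topologicalKrullDim C ≤ 1)
    (h : Etale (pullback.snd q j))
    (hfree : ∀ y : C', IsClosed ({y} : Set C') → q y ∈ Set.range j →
      ∀ g : G, (ρ g).hom y = y → g = 1)
    (htr : ∀ y₁ y₂ : C', IsClosed ({y₁} : Set C') → IsClosed ({y₂} : Set C') →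
      q y₁ ∈ Set.range j → q y₁ = q y₂ → ∃ g : G, (ρ g).hom y₁ = y₂)
    (x : C) (hx : IsClosed ({x} : Set C)) {R : Type u} [CommRing R] [IsDomain R]
    [IsDiscreteValuationRing R] (φ : C.presheaf.stalk x ⟶ CommRingCat.of R) [IsLocalHom φ.hom]
    (e : ℕ) (he : (maximalIdeal (C.presheaf.stalk x)).map φ.hom = maximalIdeal R ^ e)
    (c : Spec (CommRingCat.of R) ⟶ C') (hc : c ≫ q = Spec.map φ ≫ C.fromSpecStalk x) :
    Nat.card {g : G // (ρ g).hom (c (closedPoint R)) = c (closedPoint R)} ∣ e := by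
  have hd' : topologicalKrullDim C' ≤ 1 := by
    rw [Groth.Agent.Sga3C.DimTop.topologicalKrullDim_eq_of_isIntegralHom q]
    exact hd
  have hqx : q (c (closedPoint R)) = x := by
    have h1 := congrArg (fun g => (ConcreteCategory.hom g.base) (closedPoint R)) hc
    change q (c (closedPoint R)) = C.fromSpecStalk x (Spec.map φ (closedPoint R)) at h1
    have h2 : Spec.map φ (closedPoint R) = closedPoint (C.presheaf.stalk x) :=
      IsLocalRing.comap_closedPoint φ.hom
    rw [h2, Scheme.fromSpecStalk_closedPoint] at h1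
    exact h1
  obtain ⟨V, hVa, hxV, -⟩ := exists_isAffineOpen_mem_and_subset (x := x) (U := ⊤) trivial
  have hW : IsAffineOpen (q ⁻¹ᵁ V) := hVa.preimage q
  have hyW : c (closedPoint R) ∈ q ⁻¹ᵁ V := by
    change q (c (closedPoint R)) ∈ V
    rw [hqx]
    exact hxV
  have hVn : Nonempty V := ⟨⟨x, hxV⟩⟩
  have hWn : Nonempty (q ⁻¹ᵁ V : C'.Opens) := ⟨⟨c (closedPoint R), hyW⟩⟩
  obtain ⟨θ, hθ⟩ := exists_fac_fromSpec c (q ⁻¹ᵁ V) hW hyW
  have hcomp : q.app V ≫ θ = C.presheaf.germ V x hxV ≫ φ := by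
    apply Spec.map_injective
    rw [← cancel_mono hVa.fromSpec]
    have h1 := hVa.SpecMap_appLE_fromSpec q hW le_rfl
    rw [Scheme.Hom.appLE_eq_app] at h1
    rw [Spec.map_comp, Category.assoc, h1, ← Category.assoc, hθ, hc, Spec.map_comp, Category.assoc,
      ← hVa.fromSpecStalk_eq_fromSpecStalk hxV]
    rfl
  -- the algebra structures
  let _ : MulSemiringAction G Γ(C', q ⁻¹ᵁ V) := secAction q ρ hρ V
  let _ : Algebra Γ(C, V) Γ(C', q ⁻¹ᵁ V) := (q.app V).hom.toAlgebra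
  have hgal : IsGaloisGroup G Γ(C, V) Γ(C', q ⁻¹ᵁ V) :=
    isGaloisGroup f q j ρ hρ h
      (fun x => (Groth.Agent.Sga4B.CurveComp.isNormalScheme_of_smooth f x).2) hfree htr V hVa
  let _ : Algebra Γ(C', q ⁻¹ᵁ V) R := θ.hom.toAlgebra
  let _ : Algebra Γ(C, V) R := (q.app V ≫ θ).hom.toAlgebra
  have htow : IsScalarTower Γ(C, V) Γ(C', q ⁻¹ᵁ V) R := IsScalarTower.of_algebraMap_eq' rfl
  have hDA : IsDedekindDomain Γ(C, V) :=
    Groth.Agent.CurvesB.SmoothCurveFacts.isDedekindDomain_sec f hd hVa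
  have hDB : IsDedekindDomain Γ(C', q ⁻¹ᵁ V) :=
    Groth.Agent.CurvesB.SmoothCurveFacts.isDedekindDomain_sec (q ≫ f) hd' hW
  have hfin : Module.Finite Γ(C, V) Γ(C', q ⁻¹ᵁ V) := q.finite_app V hVa
  have hinj : Function.Injective (algebraMap Γ(C, V) Γ(C', q ⁻¹ᵁ V)) := by
    have hdom : IsSchemeTheoreticallyDominant q := .of_isDominant q
    exact Scheme.Hom.app_injective q V
  have htf : Module.IsTorsionFree Γ(C, V) Γ(C', q ⁻¹ᵁ V) := by
    have : FaithfulSMul Γ(C, V) Γ(C', q ⁻¹ᵁ V) := (faithfulSMul_iff_algebraMap_injective _ _).2 hinj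
    infer_instance
  have hflat : Module.Flat Γ(C, V) Γ(C', q ⁻¹ᵁ V) := inferInstance
  -- the primes
  let P : Ideal Γ(C', q ⁻¹ᵁ V) := (maximalIdeal R).comap θ.hom
  have hP : P.IsPrime := Ideal.comap_isPrime _ _
  let p : Ideal Γ(C, V) := P.comap (q.app V).hom
  have hp : p.IsPrime := Ideal.comap_isPrime _ _
  have hPp : P.LiesOver p := ⟨rfl⟩
  have hRP : (maximalIdeal R).LiesOver P := ⟨rfl⟩
  have hRp : (maximalIdeal R).LiesOver p := ⟨rfl⟩
  let _ : Algebra Γ(C, V) (C.presheaf.stalk x) := (C.presheaf.germ V x hxV).hom.toAlgebra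
  have hloc : IsLocalization.AtPrime (C.presheaf.stalk x) (hVa.primeIdealOf ⟨x, hxV⟩).asIdeal :=
    hVa.isLocalization_stalk ⟨x, hxV⟩
  have hpx : p = (hVa.primeIdealOf ⟨x, hxV⟩).asIdeal := by
    have h1 : p = (maximalIdeal R).comap (q.app V ≫ θ).hom := rfl
    have h2 : (maximalIdeal R).comap φ.hom = maximalIdeal (C.presheaf.stalk x) :=
      ((IsLocalRing.local_hom_TFAE φ.hom).out 0 4).1 ‹_›
    rw [h1, hcomp, CommRingCat.hom_comp, ← Ideal.comap_comap, h2]
    exact IsLocalization.AtPrime.comap_maximalIdeal (C.presheaf.stalk x)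
      (hVa.primeIdealOf ⟨x, hxV⟩).asIdeal
  have hpm : p.IsMaximal := by
    rw [hpx]
    exact hVa.primeIdealOf_isMaximal_of_isClosed ⟨x, hxV⟩ hx
  have hmap : p.map (algebraMap Γ(C, V) R) = maximalIdeal R ^ e := by
    have h1 : algebraMap Γ(C, V) R = φ.hom.comp (algebraMap Γ(C, V) (C.presheaf.stalk x)) := by
      change (q.app V ≫ θ).hom = _
      rw [hcomp]
      rfl
    rw [h1, ← Ideal.map_map, hpx, IsLocalization.AtPrime.map_eq_maximalIdeal
      (hVa.primeIdealOf ⟨x, hxV⟩).asIdeal (C.presheaf.stalk x), he]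
  have hac : IsAlgClosed p.ResidueField := by
    let _ : Algebra k Γ(C, V) := (kMap f V).toAlgebra
    have h1 : Algebra.FiniteType k Γ(C, V) := finiteType_kMap f V hVa
    exact isAlgClosed_residueField (k := k) p
  have hθi : Function.Injective (algebraMap Γ(C', q ⁻¹ᵁ V) R) := by
    rw [RingHom.injective_iff_ker_eq_bot]
    by_contra hne
    have h1 : (RingHom.ker (algebraMap Γ(C', q ⁻¹ᵁ V) R)).IsPrime := RingHom.ker_isPrime _
    have h2 := h1.isMaximal hne
    have h3 : RingHom.ker (algebraMap Γ(C', q ⁻¹ᵁ V) R) = P := by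
      refine h2.eq_of_le hP.ne_top fun b hb => ?_
      change θ.hom b ∈ maximalIdeal R
      rw [RingHom.mem_ker] at hb
      have hb' : θ.hom b = 0 := hb
      rw [hb']
      exact zero_mem _
    have h4 : p.map (algebraMap Γ(C, V) R) = ⊥ := by
      rw [Ideal.map_eq_bot_iff_le_ker]
      intro a ha
      have h5 : (q.app V).hom a ∈ P := ha
      rw [← h3, RingHom.mem_ker] at h5
      exact h5
    rw [hmap] at h4
    exact IsDiscreteValuationRing.not_a_field R (IsReduced.eq_zero _ ⟨e, h4⟩)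
  have htf' : Module.IsTorsionFree Γ(C', q ⁻¹ᵁ V) R := by
    have : FaithfulSMul Γ(C', q ⁻¹ᵁ V) R := (faithfulSMul_iff_algebraMap_injective _ _).2 hθi
    infer_instance
  have hflat' : Module.Flat Γ(C', q ⁻¹ᵁ V) R := inferInstance
  have key := RamAlg.card_stabilizer_dvd (R := R) (G := G) p P hac
  rw [RamAlg.ramificationIdx_eq p e hmap] at key
  have hyP : c (closedPoint R) = hW.fromSpec ⟨P, hP⟩ :=
    congrArg (fun t : Spec (CommRingCat.of R) ⟶ C' => t (closedPoint R)) hθ.symm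
  have hcard : Nat.card {g : G // (ρ g).hom (c (closedPoint R)) = c (closedPoint R)} =
      Nat.card (MulAction.stabilizer G P) := by
    refine Nat.card_congr (Equiv.subtypeEquivRight fun g => ?_)
    rw [hyP, apply_eq_iff q ρ hρ V hW g ⟨P, hP⟩]
    rfl
  rw [hcard]
  exact key

end Groth.Agent.Lefpen.H534.StabRam
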