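import Groth.Agent.Lefpen.H534.TameCover
import Groth.Agent.Sga4h.TameExt
import Groth.Agent.Hensel.Exist

/-!
# Tameness from a tame extension of a strictly henselian discrete valuation ring

* `tameAt_of_finite`: `R` a strictly henselian DVR, unramified over `O_{C,x}`, `L` a finite
  separable extension of its fraction field of degree invertible in `k`, `F` constant on `Spec L`:
  then `F` is tame at `x`.
* `tameAt_of_iso`: the case `L = K`.
* `tameAt_of_strictHenselization`: the case where `R` is the strict henselization of `O_{C,x}`.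
-/

set_option autoImplicit false
universe u
open CategoryTheory CategoryTheory.Limits AlgebraicGeometry Opposite IsLocalRing

namespace Groth.Agent.Lefpen.H534.TameCover

open Groth.Agent.EtpbcA

/-- `F` is tame at `x` if it becomes constant over a finite separable extension, of degree invertible
in `k`, of the fraction field of a strictly henselian discrete valuation ring unramified over
`O_{C,x}`. -/
theorem tameAt_of_finite {k : Type u} [Field k] {C : Scheme.{u}} {F : EtCoh.Ab C} {x : C}
    (R K L : Type u) [CommRing R] [IsDomain R] [IsDiscreteValuationRing R]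
    [Field K] [Algebra R K] [IsFractionRing R K]
    [Field L] [Algebra K L] [Algebra R L] [IsScalarTower R K L] [FiniteDimensional K L]
    [Algebra.IsSeparable K L] (hR : EtCoh.IsStrictlyHenselianLocalRing R)
    (φ : C.presheaf.stalk x →+* R) [IsLocalHom φ]
    (hφ : (maximalIdeal (C.presheaf.stalk x)).map φ = maximalIdeal R)
    (hdeg : (Module.finrank K L : k) ≠ 0) {N : Type} [AddCommGroup N]
    (e : (EtCoh.pull (Spec.map (CommRingCat.ofHom (algebraMap R L)) ≫
      Spec.map (CommRingCat.ofHom φ) ≫ C.fromSpecStalk x)).obj F ≅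
        EtCoh.const (Spec (CommRingCat.of L)) N) :
    TameAt k F x := by
  have h1 : IsDiscreteValuationRing (integralClosure R L) :=
    Sga4h.TameExt.isDiscreteValuationRing R K L hR
  have h2 : IsFractionRing (integralClosure R L) L := Sga4h.TameExt.isFractionRing R K L
  obtain ⟨i, j, hij, -, H⟩ := Sga4h.TameExt.exists_ramification R K L hR
  obtain ⟨hR1, hR2⟩ := hR
  obtain ⟨h3, h4, -⟩ := Groth.Agent.S1964.result R (integralClosure R L)
  obtain ⟨π, hπ⟩ := IsDiscreteValuationRing.exists_irreducible R
  obtain ⟨ϖ, hϖ⟩ := IsDiscreteValuationRing.exists_irreducible (integralClosure R L)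
  obtain ⟨u, hu⟩ := H ϖ hϖ π hπ
  have hmap : (maximalIdeal R).map (algebraMap R (integralClosure R L)) =
      maximalIdeal (integralClosure R L) ^ i := by
    rw [hπ.maximalIdeal_eq, Ideal.map_span, Set.image_singleton, hϖ.maximalIdeal_eq,
      Ideal.span_singleton_pow, Ideal.span_singleton_eq_span_singleton, hu]
    exact ⟨u⁻¹, by rw [mul_comm (u : integralClosure R L), mul_assoc, Units.mul_inv, mul_one]⟩
  refine ⟨integralClosure R L, inferInstance, inferInstance, inferInstance,
    (algebraMap R (integralClosure R L)).comp φ, i, L, inferInstance, inferInstance, inferInstance,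
    N, inferInstance, ?_, ?_, ?_, ⟨?_⟩⟩
  · exact RingHom.isLocalHom_comp _ _
  · rw [← Ideal.map_map, hφ, hmap]
  · intro hi
    apply hdeg
    rw [← hij, Nat.cast_mul, hi, zero_mul]
  · refine (PullFLC.pullCongr ?_).app F ≪≫ e
    rw [← Category.assoc, ← Category.assoc, ← Spec.map_comp, ← Spec.map_comp]
    rfl

/-- `F` is tame at `x` if it is constant on the generic point of a discrete valuation ring unramified
over `O_{C,x}`. -/
theorem tameAt_of_iso {k : Type u} [Field k] {C : Scheme.{u}} {F : EtCoh.Ab C} {x : C}
    (R K : Type u) [CommRing R] [IsDomain R] [IsDiscreteValuationRing R]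
    [Field K] [Algebra R K] [IsFractionRing R K]
    (φ : C.presheaf.stalk x →+* R) [hφ' : IsLocalHom φ]
    (hφ : (maximalIdeal (C.presheaf.stalk x)).map φ = maximalIdeal R) {N : Type} [AddCommGroup N]
    (e : (EtCoh.pull (Spec.map (CommRingCat.ofHom (algebraMap R K)) ≫
      Spec.map (CommRingCat.ofHom φ) ≫ C.fromSpecStalk x)).obj F ≅
        EtCoh.const (Spec (CommRingCat.of K)) N) :
    TameAt k F x :=
  ⟨R, inferInstance, inferInstance, inferInstance, φ, 1, K, inferInstance, inferInstance,
    inferInstance, N, inferInstance, hφ', by rw [hφ, pow_one], by rw [Nat.cast_one]; exact one_ne_zero,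
    ⟨e⟩⟩

/-- The case of the strict henselization. -/
theorem tameAt_of_strictHenselization {k : Type u} [Field k] {C : Scheme.{u}} {F : EtCoh.Ab C} {x : C}
    (R K L : Type u) [CommRing R] [IsDomain R] [IsDiscreteValuationRing R]
    [Algebra (C.presheaf.stalk x) R] [IsLocalHom (algebraMap (C.presheaf.stalk x) R)]
    [hSH : Hensel.IsStrictHenselization (C.presheaf.stalk x) R]
    [Field K] [Algebra R K] [IsFractionRing R K]
    [Field L] [Algebra K L] [Algebra R L] [IsScalarTower R K L] [FiniteDimensional K L]
    [Algebra.IsSeparable K L] (hdeg : (Module.finrank K L : k) ≠ 0) {N : Type} [AddCommGroup N]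
    (e : (EtCoh.pull (Spec.map (CommRingCat.ofHom (algebraMap R L)) ≫
      Spec.map (CommRingCat.ofHom (algebraMap (C.presheaf.stalk x) R)) ≫ C.fromSpecStalk x)).obj F ≅
        EtCoh.const (Spec (CommRingCat.of L)) N) :
    TameAt k F x := by
  have h1 := Groth.Agent.Hensel.Exist.map_maximalIdeal_of_isStrictHenselization
    (C.presheaf.stalk x) R
  refine tameAt_of_finite R K L ⟨hSH.henselian, hSH.isSepClosure.sep_closed⟩
    (algebraMap (C.presheaf.stalk x) R) h1 hdeg e

end Groth.Agent.Lefpen.H534.TameCover
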