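import Groth.Agent.Lefpen.H534.PointDescent
import Groth.Agent.Lefpen.H534.StabRam
import Groth.Agent.Vancyc.H566.Norm
import Groth.Agent.Sga4B.ConstLC
import Groth.Agent.EtpbcA.PullFLC
import Groth.Agent.EtpbcA.OverSite2
import Mathlib.AlgebraicGeometry.ValuativeCriterion

/-!
# The Galois covering of a curve attached to a sheaf with tame ramification

`C` a connected smooth curve over an algebraically closed field `k`, `j : U ⟶ C` a nonempty open
subscheme, `F` a sheaf on `C` finite locally constant on `U`.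

* `TameAt k F x`: there is a discrete valuation ring `R` dominating `O_{C,x}` with ramification
  index invertible in `k` such that `F` is constant on the spectrum of the fraction field of `R`.
* `exists_cover`: if `F` is tame at the points outside `U`, there are a connected regular finite
  covering `q : C' ⟶ C` and a finite group `G` acting on it with all the properties of the
  hypotheses of the tame Euler-Poincaré formula `S4175`.
-/

set_option autoImplicit false
universe u
open CategoryTheory CategoryTheory.Limits AlgebraicGeometry Opposite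

namespace Groth.Agent.Lefpen.H534.TameCover

open Groth.Agent.EtpbcA Groth.Agent.Etbase

/-- `F` becomes constant on the generic point of a discrete valuation ring dominating `O_{C,x}` with
ramification index invertible in `k`. -/
def TameAt (k : Type u) [Field k] {C : Scheme.{u}} (F : EtCoh.Ab C) (x : C) : Prop :=
  ∃ (R : Type u) (_ : CommRing R) (_ : IsDomain R) (_ : IsDiscreteValuationRing R)
    (φ : C.presheaf.stalk x →+* R) (e : ℕ) (L : Type u) (_ : Field L) (_ : Algebra R L)
    (_ : IsFractionRing R L) (N : Type) (_ : AddCommGroup N),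
    IsLocalHom φ ∧
    (IsLocalRing.maximalIdeal (C.presheaf.stalk x)).map φ = IsLocalRing.maximalIdeal R ^ e ∧
    (e : k) ≠ 0 ∧
    Nonempty ((EtCoh.pull (Spec.map (CommRingCat.ofHom (algebraMap R L)) ≫
      Spec.map (CommRingCat.ofHom φ) ≫ C.fromSpecStalk x)).obj F ≅
        EtCoh.const (Spec (CommRingCat.of L)) N)

section aut

variable {X : Scheme.{u}} {F : EtCoh.Ab X} (D : IsoTorsor.Gal F)

/-- The action of the Galois group on the covering scheme. -/
noncomputable def aut : D.G →* Aut D.A.left where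
  toFun g := ⟨(D.f g⁻¹).left, (D.f g).left, by
    have h := congrArg (fun t : D.A ⟶ D.A => t.left) (D.f_inv_comp g)
    exact h, by
    have h := congrArg (fun t : D.A ⟶ D.A => t.left) (D.f_comp_inv g)
    exact h⟩
  map_one' := by
    ext1
    change (D.f 1⁻¹).left = 𝟙 D.A.left
    rw [inv_one, D.f_one]
    rfl
  map_mul' g h := by
    ext1
    change (D.f (g * h)⁻¹).left = (D.f h⁻¹).left ≫ (D.f g⁻¹).left
    rw [mul_inv_rev, D.f_mul]
    rfl

theorem aut_hom (g : D.G) : (aut D g).hom = (D.f g⁻¹).left := rfl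

theorem aut_comp (g : D.G) : (aut D g).hom ≫ D.A.hom = D.A.hom :=
  Over.w (D.f g⁻¹).hom

theorem aut_trans (y₁ y₂ : D.A.left) (h : D.A.hom y₁ = D.A.hom y₂) :
    ∃ g : D.G, (aut D g).hom y₁ = y₂ := by
  obtain ⟨g, hg⟩ := D.exists_of_hom_eq y₁ y₂ h
  exact ⟨g⁻¹, by rw [aut_hom, inv_inv]; exact hg⟩

/-- Freeness at closed points, over an algebraically closed field. -/
theorem aut_free {k : Type u} [Field k] [IsAlgClosed k] (s : X ⟶ Spec (CommRingCat.of k))
    [LocallyOfFiniteType s] (y : D.A.left) (hy : IsClosed ({y} : Set D.A.left)) (g : D.G)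
    (hg : (aut D g).hom y = y) : g = 1 := by
  let h : D.A.left ⟶ X := D.A.hom
  have h1 : IsFinite h := D.isFinite
  let t : Spec (CommRingCat.of k) ⟶ D.A.left := pointOfClosedPoint (h ≫ s) y hy
  have ht : t ≫ h ≫ s = 𝟙 _ := pointOfClosedPoint_comp (h ≫ s) y hy
  have hty : ∀ z, t z = y := fun z => pointOfClosedPoint_apply (h ≫ s) y hy z
  have hgh : (aut D g).hom ≫ h = h := aut_comp D g
  have htg : t ≫ (aut D g).hom = t := by
    refine ext_of_apply_closedPoint_eq (h ≫ s) ?_ ht ?_
    · rw [Category.assoc, ← Category.assoc _ h s, hgh, ht]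
    · rw [Scheme.Hom.comp_apply, hty, hg]
  have := D.eq_one_of_comp t g⁻¹ htg
  exact inv_eq_one.1 this

end aut

/-- A field valued point of a curve, generic in a discrete valuation ring dominating the local ring
at `x ∉ U` in a ramified way, factors through `U`. -/
theorem exists_fac_open {k : Type u} [Field k] {C U : Scheme.{u}} (f : C ⟶ Spec (CommRingCat.of k))
    [SmoothOfRelativeDimension 1 f] [QuasiCompact f] [ConnectedSpace C] (j : U ⟶ C)
    [IsOpenImmersion j] [Nonempty U] (x : C) {R : Type u} [CommRing R] [IsDomain R]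
    [IsDiscreteValuationRing R] (φ : C.presheaf.stalk x →+* R) (e : ℕ)
    (he : (IsLocalRing.maximalIdeal (C.presheaf.stalk x)).map φ = IsLocalRing.maximalIdeal R ^ e)
    {L : Type u} [Field L] [Algebra R L] [IsFractionRing R L] :
    ∃ τ : Spec (CommRingCat.of L) ⟶ U, τ ≫ j = Spec.map (CommRingCat.ofHom (algebraMap R L)) ≫
      Spec.map (CommRingCat.ofHom φ) ≫ C.fromSpecStalk x := by
  let g : Spec (CommRingCat.of L) ⟶ C := Spec.map (CommRingCat.ofHom (algebraMap R L)) ≫
      Spec.map (CommRingCat.ofHom φ) ≫ C.fromSpecStalk x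
  have h1 : g default ∈ j.opensRange := by
    by_contra hne
    obtain ⟨-, hcl⟩ := Sga5.H852.CurveGeo.compl_finite f j.opensRange
      ⟨j (Classical.arbitrary U), ⟨_, rfl⟩⟩
    have h2 := hcl _ hne
    -- `g default` specializes to `x`
    have h3 : g default ⤳ x := by
      have h4 : g default ∈ Set.range (C.fromSpecStalk x) := ⟨_, rfl⟩
      rw [Scheme.range_fromSpecStalk] at h4
      exact h4
    have h5 : x = g default := by
      have h6 := h3.mem_closed h2 rfl
      exact h6
    let z : PrimeSpectrum (C.presheaf.stalk x) :=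
      Spec.map (CommRingCat.ofHom φ) (Spec.map (CommRingCat.ofHom (algebraMap R L)) default)
    have h6 : z = IsLocalRing.closedPoint (C.presheaf.stalk x) := by
      apply (C.fromSpecStalk x).isEmbedding.injective
      rw [Scheme.fromSpecStalk_closedPoint]
      exact h5.symm
    have h7 : IsLocalRing.maximalIdeal (C.presheaf.stalk x) ≤ RingHom.ker φ := by
      intro a ha
      have h8 : z.asIdeal = IsLocalRing.maximalIdeal (C.presheaf.stalk x) :=
        congrArg PrimeSpectrum.asIdeal h6
      rw [← h8] at ha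
      let d : PrimeSpectrum L := (default : Spec (CommRingCat.of L))
      have h9 : algebraMap R L (φ a) ∈ d.asIdeal := ha
      have h10 : d.asIdeal = ⊥ := (Ideal.eq_bot_or_top _).resolve_right d.2.ne_top
      rw [h10] at h9
      exact (FaithfulSMul.algebraMap_eq_zero_iff R L).1 h9
    have h8 : (IsLocalRing.maximalIdeal (C.presheaf.stalk x)).map φ = ⊥ :=
      (Ideal.map_eq_bot_iff_le_ker _).2 h7
    rw [he] at h8
    exact IsDiscreteValuationRing.not_a_field R (IsReduced.eq_zero _ ⟨e, h8⟩)
  have h2 : Set.range g ⊆ Set.range j := by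
    rintro _ ⟨z, rfl⟩
    rw [Subsingleton.elim z default]
    exact h1
  exact ⟨IsOpenImmersion.lift j g h2, IsOpenImmersion.lift_fac _ _ _⟩

/-- Conjugate points have stabilisers of the same order. -/
theorem card_stab_eq {C' : Scheme.{u}} {G : Type} [Group G] (ρ : G →* Aut C') (g : G) (y₀ y : C')
    (h : (ρ g).hom y₀ = y) :
    Nat.card {a : G // (ρ a).hom y = y} = Nat.card {a : G // (ρ a).hom y₀ = y₀} := by
  have hmul : ∀ (a b : G) (z : C'), (ρ (a * b)).hom z = (ρ a).hom ((ρ b).hom z) := by
    intro a b z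
    rw [Groth.Agent.Sga5.H833.RamStalk.hom_mul, Scheme.Hom.comp_apply]
  have hone : ∀ z : C', (ρ 1).hom z = z := by
    intro z
    rw [map_one]
    rfl
  have h' : (ρ g⁻¹).hom y = y₀ := by
    rw [← h, ← hmul, inv_mul_cancel, hone]
  refine Nat.card_congr
    { toFun := fun a => ⟨g⁻¹ * a.1 * g, by rw [hmul, hmul, h, a.2, h']⟩
      invFun := fun a => ⟨g * a.1 * g⁻¹, by rw [hmul, hmul, h', a.2, h]⟩
      left_inv := fun a => Subtype.ext (by group)
      right_inv := fun a => Subtype.ext (by group) }

/-- Lifting along finite morphisms over discrete valuation rings. -/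
theorem exists_lift_dvr {C C' : Scheme.{u}} (q : C' ⟶ C) [IsFinite q] {R L : Type u} [CommRing R]
    [IsDomain R] [IsDiscreteValuationRing R] [Field L] [Algebra R L] [IsFractionRing R L]
    (a : Spec (CommRingCat.of L) ⟶ C') (b : Spec (CommRingCat.of R) ⟶ C)
    (h : a ≫ q = Spec.map (CommRingCat.ofHom (algebraMap R L)) ≫ b) :
    ∃ c : Spec (CommRingCat.of R) ⟶ C', c ≫ q = b := by
  have h1 : IsProper q := inferInstance
  rw [IsProper.eq_valuativeCriterion] at h1
  let S : ValuativeCommSq q := { R := R, K := L, i₁ := a, i₂ := b, commSq := ⟨h⟩ }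
  obtain ⟨l⟩ := (h1.1.1.1.existence S).exists_lift
  exact ⟨l.l, l.fac_right⟩

open IsLocalRing in
/-- **The Galois covering attached to a sheaf with tame ramification**: all the hypotheses of the tame
Euler-Poincaré formula `S4175`. -/
theorem exists_cover {k : Type u} [Field k] [IsAlgClosed k] {C U : Scheme.{u}}
    (f : C ⟶ Spec (CommRingCat.of k)) [SmoothOfRelativeDimension 1 f] [QuasiCompact f]
    [ConnectedSpace C] (j : U ⟶ C) [IsOpenImmersion j] [Nonempty U] (F : EtCoh.Ab C)
    (hF : EtCoh.IsFiniteLocallyConstant ((EtCoh.pull j).obj F))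
    (ht : ∀ x : C, IsClosed ({x} : Set C) → x ∉ Set.range j → TameAt k F x) :
    ∃ (C' : Scheme.{u}) (q : C' ⟶ C) (G : Type) (_ : Group G) (_ : Finite G) (ρ : G →* Aut C'),
      ConnectedSpace C' ∧ (∀ y : C', IsRegularLocalRing (C'.presheaf.stalk y)) ∧
      IsFinite q ∧ Surjective q ∧ (∀ g : G, (ρ g).hom ≫ q = q) ∧
      EtCoh.etaleMP (pullback.snd q j) ∧
      (∀ y : C', IsClosed ({y} : Set C') → q.base y ∈ Set.range j.base →
        ∀ g : G, (ρ g).hom.base y = y → g = 1) ∧
      (∀ y₁ y₂ : C', IsClosed ({y₁} : Set C') → IsClosed ({y₂} : Set C') →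
        q.base y₁ ∈ Set.range j.base → q.base y₁ = q.base y₂ →
          ∃ g : G, (ρ g).hom.base y₁ = y₂) ∧
      (∃ (N : Type) (_ : AddCommGroup N),
        Nonempty ((EtCoh.pull (pullback.snd q j ≫ j)).obj F ≅ EtCoh.const (pullback q j) N)) ∧
      (∀ y : C', IsClosed ({y} : Set C') → ∀ p : ℕ, p.Prime → (p : k) = 0 →
        ¬ p ∣ Nat.card {g : G // (ρ g).hom.base y = y}) := by
  have hCsm : Smooth f := SmoothOfRelativeDimension.smooth 1 f
  have hCi : IsIntegral C := Sga5.H852.CurveGeo.isIntegral f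
  have hCN : IsLocallyNoetherian C := LocallyOfFiniteType.isLocallyNoetherian f
  have hUi : IsIntegral U := isIntegral_of_isOpenImmersion j
  have hUN : IsLocallyNoetherian U := isLocallyNoetherian_of_isOpenImmersion j
  obtain ⟨D⟩ := IsoTorsor.Gal.nonempty ((EtCoh.pull j).obj F) hF
  let p : D.A.left ⟶ U := D.A.hom
  have hp1 : IsFinite p := D.isFinite
  have hp2 : Etale p := D.A.prop
  have hqc : QuasiCompact (p ≫ j) := Vancyc.H566.Norm.quasiCompact_comp j p f
  have hpa : ∀ g, (aut D g).hom ≫ p = p := fun g => aut_comp D g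
  obtain ⟨a1, a2, a3, a4, a5, a6, a7⟩ := Vancyc.H566.Norm.props j p f
  let q : (p ≫ j).normalization ⟶ C := (p ≫ j).fromNormalization
  let ρ : D.G →* Aut (p ≫ j).normalization := Vancyc.H566.Norm.rho j p (aut D) hpa
  have hρ : ∀ g, (ρ g).hom ≫ q = q := Vancyc.H566.Norm.rho_from j p (aut D) hpa
  have hG : Finite (D.M ≃ₗ[ℤ] D.M) :=
    Finite.of_injective (fun (g : D.M ≃ₗ[ℤ] D.M) => (g : D.M → D.M)) DFunLike.coe_injective
  have het : Etale (pullback.snd q j) := Vancyc.H566.Norm.etale_snd j p f
  have hfree : ∀ y : (p ≫ j).normalization, IsClosed ({y} : Set (p ≫ j).normalization) →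
      q y ∈ Set.range j → ∀ g : D.G, (ρ g).hom y = y → g = 1 := fun y hy hyU g hg =>
    Vancyc.H566.Norm.free j p f (aut D) hpa (fun y hy g hg => aut_free D (j ≫ f) y hy g hg)
      y hy hyU g hg
  have htr : ∀ y₁ y₂ : (p ≫ j).normalization, IsClosed ({y₁} : Set (p ≫ j).normalization) →
      IsClosed ({y₂} : Set (p ≫ j).normalization) → q y₁ ∈ Set.range j → q y₁ = q y₂ →
        ∃ g : D.G, (ρ g).hom y₁ = y₂ := fun y₁ y₂ h₁ h₂ hyU h =>
    Vancyc.H566.Norm.trans j p f (aut D) hpa (fun y₁ y₂ _ _ h => aut_trans D y₁ y₂ h)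
      y₁ y₂ h₁ h₂ hyU h
  refine ⟨(p ≫ j).normalization, q, D.G, inferInstance, inferInstance, ρ, inferInstance, a3, a1, a6,
    hρ, het, hfree, htr, ?_, ?_⟩
  · -- constancy
    refine ⟨D.M, inferInstance, ?_⟩
    obtain ⟨e⟩ := (OverSite2.restr_iso_const_iff D.A ((EtCoh.pull j).obj F) _).1
      (ConsFLC.nonempty_iso_const D.φ D.bij)
    let r : pullback q j ⟶ D.A.left := a7.isoPullback.inv
    have hr : r ≫ p = pullback.snd q j := a7.isoPullback_inv_snd
    refine ⟨(PullFLC.pullComp (pullback.snd q j) j).symm.app F ≪≫ ?_⟩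
    exact (PullFLC.pullCongr hr.symm).app ((EtCoh.pull j).obj F) ≪≫
      (PullFLC.pullComp r p).symm.app ((EtCoh.pull j).obj F) ≪≫ (EtCoh.pull r).mapIso e ≪≫
      Sga4B.ConstLC.pullConstIso r D.M
  · -- tameness
    intro y hy p' hp' hp'0 hdvd
    by_cases hyU : q y ∈ Set.range j
    · have h1 : Nat.card {g : D.G // (ρ g).hom y = y} = 1 := by
        rw [Nat.card_eq_one_iff_unique]
        refine ⟨⟨fun a b => Subtype.ext ?_⟩, ⟨⟨1, by rw [map_one]; rfl⟩⟩⟩
        rw [hfree y hy hyU a.1 a.2, hfree y hy hyU b.1 b.2]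
      rw [show Nat.card {g : D.G // (ρ g).hom.base y = y} = 1 from h1] at hdvd
      exact hp'.one_lt.ne' (Nat.dvd_one.1 hdvd)
    · have hqy : IsClosed ({q y} : Set C) := by
        have h1 := q.isClosedMap _ hy
        rwa [Set.image_singleton] at h1
      obtain ⟨R, _, _, _, φ, e, L, _, _, _, N, _, hloc, he, hek, ⟨iso⟩⟩ := ht (q y) hqy hyU
      obtain ⟨τ, hτ⟩ := exists_fac_open f j (q y) φ e he (L := L)
      have e1 : (EtCoh.pull τ).obj ((EtCoh.pull j).obj F) ≅
          EtCoh.const (Spec (CommRingCat.of L)) N :=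
        (PullFLC.pullComp τ j).app F ≪≫ (PullFLC.pullCongr hτ).app F ≪≫ iso
      obtain ⟨a, ha⟩ := PointDescent.exists_pt D τ e1
      have hsq : (a ≫ (p ≫ j).toNormalization) ≫ q =
          Spec.map (CommRingCat.ofHom (algebraMap R L)) ≫
            Spec.map (CommRingCat.ofHom φ) ≫ C.fromSpecStalk (q y) := by
        rw [← hτ, ← ha, Category.assoc]
        change a ≫ (p ≫ j).toNormalization ≫ (p ≫ j).fromNormalization = (a ≫ p) ≫ j
        rw [(p ≫ j).toNormalization_fromNormalization, Category.assoc]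
      obtain ⟨c, hc⟩ := exists_lift_dvr q _ _ hsq
      have key := StabRam.card_stab_dvd f q j ρ hρ (Sga5.H852.CurveGeo.topologicalKrullDim_le f) het
        hfree htr (q y) hqy (CommRingCat.ofHom φ) e he c hc
      have hqx : q (c (closedPoint R)) = q y := by
        have h1 := congrArg (fun g => (ConcreteCategory.hom g.base) (closedPoint R)) hc
        change q (c (closedPoint R)) =
          C.fromSpecStalk (q y) (Spec.map (CommRingCat.ofHom φ) (closedPoint R)) at h1
        have h2 : Spec.map (CommRingCat.ofHom φ) (closedPoint R) =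
            closedPoint (C.presheaf.stalk (q y)) := IsLocalRing.comap_closedPoint φ
        rw [h2, Scheme.fromSpecStalk_closedPoint] at h1
        exact h1
      obtain ⟨g, hg⟩ := Groth.Agent.Sga5.H854.Trans.exists_apply_eq f q j ρ hρ het
        (fun x => (Groth.Agent.Sga4B.CurveComp.isNormalScheme_of_smooth f x).2) htr
        (c (closedPoint R)) y hqx
      have h3 : Nat.card {g : D.G // (ρ g).hom.base y = y} =
          Nat.card {a : D.G // (ρ a).hom (c (closedPoint R)) = c (closedPoint R)} :=
        card_stab_eq ρ g (c (closedPoint R)) y hg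
      rw [h3] at hdvd
      obtain ⟨m, hm⟩ := hdvd.trans key
      apply hek
      rw [hm, Nat.cast_mul, hp'0, zero_mul]

end Groth.Agent.Lefpen.H534.TameCover
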