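import Groth.Agent.Sga4h.WildField
import Groth.Agent.Lefpen.H713.TWild
import Mathlib.FieldTheory.Galois.Infinite

/-!
# The tame part of a finite extension of a strictly henselian discretely valued field

* `exists_mul`: `Gal(Ω / L ∩ E) = Gal(Ω / L) Gal(Ω / E)` for `L / K` finite Galois.
* `exists_level`: `R` strictly henselian DVR with fraction field `K`, uniformizer `π`, `L / K` a finite
  subextension of the separable closure `Ω`: there is `m` invertible in `R` such that every
  automorphism fixing an `m`-th root of `π` is the product of one fixing `L` and of one all of whose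
  orbits have length prime to every integer invertible in `R`.
-/

set_option autoImplicit false
universe u v

namespace Groth.Agent.Lefpen.H534.TameField

open Groth.Agent.Lefpen.H713.TWild

section galois

variable {K : Type u} {Ω : Type v} [Field K] [Field Ω] [Algebra K Ω] [IsGalois K Ω]

/-- `Gal(Ω / L ∩ E) = Gal(Ω / L) Gal(Ω / E)`. -/
theorem exists_mul (L E : IntermediateField K Ω) [FiniteDimensional K L] [Normal K L] (σ : Ω ≃ₐ[K] Ω)
    (hσ : σ ∈ (L ⊓ E).fixingSubgroup) :
    ∃ lam ∈ L.fixingSubgroup, ∃ τ ∈ E.fixingSubgroup, lam * τ = σ := by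
  have hsepL : Algebra.IsSeparable K L := Algebra.isSeparable_tower_bot_of_isSeparable K L Ω
  have hgalL : IsGalois K L := ⟨⟩
  have hnorm : L.fixingSubgroup.Normal := IsGalois.fixingSubgroup_normal_of_isGalois L
  let H : Subgroup (Ω ≃ₐ[K] Ω) := L.fixingSubgroup ⊔ E.fixingSubgroup
  have hopen : IsOpen (H : Set (Ω ≃ₐ[K] Ω)) :=
    Subgroup.isOpen_mono le_sup_left L.fixingSubgroup_isOpen
  have hclosed : IsClosed (H : Set (Ω ≃ₐ[K] Ω)) := Subgroup.isClosed_of_isOpen H hopen
  have h1 : IntermediateField.fixedField H ≤ L ⊓ E := by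
    refine le_inf ?_ ?_
    · rw [← InfiniteGalois.fixedField_fixingSubgroup L]
      exact IntermediateField.fixedField_antitone le_sup_left
    · rw [← InfiniteGalois.fixedField_fixingSubgroup E]
      exact IntermediateField.fixedField_antitone le_sup_right
  have h2 : σ ∈ H := by
    have h3 := InfiniteGalois.fixingSubgroup_fixedField ⟨H, hclosed⟩
    have h4 : σ ∈ (IntermediateField.fixedField H).fixingSubgroup :=
      IntermediateField.fixingSubgroup_antitone h1 hσ
    have h5 : (IntermediateField.fixedField H).fixingSubgroup = H := h3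
    rwa [h5] at h4
  exact Subgroup.mem_sup_of_normal_left.1 h2

end galois

section roots

variable (R K Ω : Type u) [CommRing R] [IsDomain R] [IsDiscreteValuationRing R]
  [Field K] [Algebra R K] [IsFractionRing R K] [Field Ω] [Algebra K Ω]

/-- All roots of `π` of order invertible in `R`. -/
def tameField (π : R) : IntermediateField K Ω :=
  IntermediateField.adjoin K {x : Ω | ∃ m : ℕ, IsUnit (m : R) ∧ x ^ m = algebraMap K Ω (algebraMap R K π)}

variable {R K Ω}

theorem exists_root [hΩ : IsSepClosure K Ω] {m : ℕ} (hm : IsUnit (m : R)) (π : R) :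
    ∃ r : Ω, r ^ m = algebraMap K Ω (algebraMap R K π) := by
  have hsc : IsSepClosed Ω := hΩ.sep_closed
  have hne : NeZero (m : Ω) := ⟨by
    have h1 := (hm.map (algebraMap R K)).map (algebraMap K Ω)
    rw [map_natCast, map_natCast] at h1
    exact h1.ne_zero⟩
  exact IsSepClosed.exists_pow_nat_eq (algebraMap K Ω (algebraMap R K π)) m

/-- Automorphisms fixing the tame field have orbits prime to all integers invertible in `R`. -/
theorem copPow_of_mem [hΩ : IsSepClosure K Ω] (hR : EtCoh.IsStrictlyHenselianLocalRing R) {π : R}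
    (hπ : Irreducible π) (τ : Ω ≃ₐ[K] Ω) (hτ : τ ∈ (tameField R K Ω π).fixingSubgroup) {M : ℕ}
    (hM : IsUnit (M : R)) : CopPow M τ := by
  intro x
  have hsep : Algebra.IsSeparable K Ω := hΩ.separable
  have hgal : IsGalois K Ω := IsSepClosure.isGalois
  let E := tameField R K Ω π
  let _ : Algebra R E := ((algebraMap K E).comp (algebraMap R K)).toAlgebra
  have htow : IsScalarTower R K E := .of_algebraMap_eq fun _ => rfl
  have hgE : IsGalois E Ω := IsGalois.tower_top_intermediateField E
  have hsE : Algebra.IsSeparable K E := Algebra.isSeparable_tower_bot_of_isSeparable K E Ω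
  have hint : IsIntegral E x := Algebra.IsIntegral.isIntegral x
  let M₀ : IntermediateField E Ω := IntermediateField.adjoin E ((minpoly E x).rootSet Ω)
  have hfin : ((minpoly E x).rootSet Ω).Finite := (minpoly E x).rootSet_finite Ω
  have hfd : FiniteDimensional E M₀ := by
    have := hfin.to_subtype
    exact IntermediateField.finiteDimensional_adjoin fun y _ => Algebra.IsIntegral.isIntegral y
  have hspl : Polynomial.IsSplittingField E M₀ (minpoly E x) :=
    IntermediateField.adjoin_rootSet_isSplittingField (hgE.to_normal.splits x)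
  have hnorm : Normal E M₀ := Normal.of_isSplittingField (minpoly E x)
  have hsM : Algebra.IsSeparable E M₀ := Algebra.isSeparable_tower_bot_of_isSeparable E M₀ Ω
  have hgM : IsGalois E M₀ := ⟨⟩
  have hx : x ∈ M₀ := by
    apply IntermediateField.subset_adjoin
    rw [Polynomial.mem_rootSet]
    exact ⟨minpoly.ne_zero hint, minpoly.aeval E x⟩
  have hcop : (Module.finrank E M₀).Coprime M :=
    Groth.Agent.Sga4h.WildField.coprime_finrank R K E hR M hM hπ (by
      intro ℓ hℓ hd a
      have hu : IsUnit ((ℓ ^ a : ℕ) : R) := by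
        rw [Nat.cast_pow]
        obtain ⟨M', rfl⟩ := hd
        rw [Nat.cast_mul] at hM
        exact (isUnit_of_mul_isUnit_left hM).pow a
      obtain ⟨r, hr⟩ := exists_root (Ω := Ω) (K := K) hu π
      refine ⟨⟨r, IntermediateField.subset_adjoin _ _ ⟨ℓ ^ a, hu, hr⟩⟩, ?_⟩
      apply Subtype.ext
      exact hr) M₀
  -- `τ` over `E`
  let τ' : Ω ≃ₐ[E] Ω := AlgEquiv.ofRingEquiv (f := τ.toRingEquiv) fun c =>
    ((IntermediateField.mem_fixingSubgroup_iff _ τ).1 hτ c.1 c.2)
  have hτ' : ∀ (i : ℕ) (y : Ω), (τ' ^ i) y = (τ ^ i) y := by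
    intro i
    induction i with
    | zero => intro y; simp
    | succ i ih =>
      intro y
      rw [pow_succ, pow_succ, AlgEquiv.mul_apply, AlgEquiv.mul_apply, ih]
      rfl
  let s : M₀ ≃ₐ[E] M₀ := τ'.restrictNormal M₀
  have hs : ∀ (i : ℕ) (y : M₀), ((s ^ i) y : Ω) = (τ' ^ i) (y : Ω) := by
    intro i
    induction i with
    | zero => intro y; simp
    | succ i ih =>
      intro y
      rw [pow_succ, pow_succ, AlgEquiv.mul_apply, AlgEquiv.mul_apply, ih]
      congr 1
      exact AlgEquiv.restrictNormal_commutes τ' M₀ y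
  refine ⟨Module.finrank E M₀, Module.finrank_pos, hcop, ?_⟩
  have h1 : s ^ (Module.finrank E M₀) = 1 := by
    rw [← IsGalois.card_aut_eq_finrank]
    exact pow_card_eq_one'
  rw [← hτ', ← hs _ ⟨x, hx⟩, h1]
  rfl

/-- A finite subextension of the tame field lies in `K(r)` for a root `r` of the uniformizer. -/
theorem exists_le [hΩ : IsSepClosure K Ω] (hR : EtCoh.IsStrictlyHenselianLocalRing R) {π : R}
    (hπ : Irreducible π) (K₁ : IntermediateField K Ω) [FiniteDimensional K K₁]
    (h : K₁ ≤ tameField R K Ω π) :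
    ∃ m : ℕ, IsUnit (m : R) ∧ ∀ r : Ω, r ^ m = algebraMap K Ω (algebraMap R K π) →
      K₁ ≤ IntermediateField.adjoin K {r} := by
  classical
  have hsep : Algebra.IsSeparable K Ω := hΩ.separable
  have hsep1 : Algebra.IsSeparable K K₁ := Algebra.isSeparable_tower_bot_of_isSeparable K K₁ Ω
  obtain ⟨θ, hθ⟩ := Field.exists_primitive_element K K₁
  have hK : K₁ = IntermediateField.adjoin K {(θ : Ω)} := by
    have h1 := congrArg (IntermediateField.map K₁.val) hθ
    rw [IntermediateField.adjoin_map, Set.image_singleton] at h1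
    rw [← AlgHom.fieldRange_eq_map] at h1
    rw [IntermediateField.fieldRange_val] at h1
    exact h1.symm
  obtain ⟨T, hT, hθT⟩ := IntermediateField.exists_finset_of_mem_adjoin (h θ.2)
  choose! mt hmt hmt' using (fun t (ht : t ∈ T) => hT ht)
  let _ : Algebra R Ω := ((algebraMap K Ω).comp (algebraMap R K)).toAlgebra
  have htow : IsScalarTower R K Ω := .of_algebraMap_eq fun _ => rfl
  have hfs : FaithfulSMul R Ω := by
    rw [faithfulSMul_iff_algebraMap_injective, IsScalarTower.algebraMap_eq R K Ω]
    exact (algebraMap K Ω).injective.comp (IsFractionRing.injective R K)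
  refine ⟨∏ t ∈ T, mt t, ?_, fun r hr => ?_⟩
  · rw [Nat.cast_prod]
    exact IsUnit.prod_iff.2 fun t ht => hmt t ht
  · rw [hK, IntermediateField.adjoin_simple_le_iff]
    refine IntermediateField.adjoin_le_iff.2 (fun t ht => ?_) hθT
    have ht' : t ∈ T := ht
    have hπ0 : algebraMap R Ω π ≠ 0 := by
      rw [Ne, map_eq_zero_iff _ (FaithfulSMul.algebraMap_injective R Ω)]
      exact hπ.ne_zero
    obtain ⟨n, hn⟩ := Finset.dvd_prod_of_mem mt ht'
    obtain ⟨c, hc⟩ := Groth.Agent.Sga4h.WildPro.exists_eq_mul R hR (mt t) (hmt t ht') hπ0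
      (x := t) (y := r ^ n) (hmt' t ht') (by rw [← pow_mul, mul_comm n, ← hn, hr]; rfl)
    rw [hc]
    refine mul_mem ?_ (pow_mem (IntermediateField.mem_adjoin_simple_self K r) n)
    rw [IsScalarTower.algebraMap_apply R K Ω]
    exact IntermediateField.algebraMap_mem _ _

/-- **The tame level.** -/
theorem exists_level [hΩ : IsSepClosure K Ω] (hR : EtCoh.IsStrictlyHenselianLocalRing R) {π : R}
    (hπ : Irreducible π) (L : IntermediateField K Ω) [FiniteDimensional K L] :
    ∃ m : ℕ, IsUnit (m : R) ∧ ∀ r : Ω, r ^ m = algebraMap K Ω (algebraMap R K π) →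
      ∀ σ : Ω ≃ₐ[K] Ω, σ r = r → ∃ lam ∈ L.fixingSubgroup, ∃ τ : Ω ≃ₐ[K] Ω,
        (∀ M : ℕ, IsUnit (M : R) → CopPow M τ) ∧ lam * τ = σ := by
  have hsep : Algebra.IsSeparable K Ω := hΩ.separable
  have hgal : IsGalois K Ω := IsSepClosure.isGalois
  let L' : IntermediateField K Ω := IntermediateField.normalClosure K L Ω
  have hL' : L ≤ L' := L.le_normalClosure
  have hfd : FiniteDimensional K L' := normalClosure.is_finiteDimensional K L Ω
  have hnorm : Normal K L' := normalClosure.normal K L Ω
  let K₁ : IntermediateField K Ω := L' ⊓ tameField R K Ω π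
  have hle : K₁ ≤ L' := inf_le_left
  have hfd1 : FiniteDimensional K K₁ := FiniteDimensional.of_injective
    (IntermediateField.inclusion hle).toLinearMap (IntermediateField.inclusion_injective hle)
  obtain ⟨m, hm, h⟩ := exists_le hR hπ K₁ inf_le_right
  refine ⟨m, hm, fun r hr σ hσ => ?_⟩
  have hσ1 : σ ∈ K₁.fixingSubgroup := by
    refine IntermediateField.fixingSubgroup_antitone (h r hr) ?_
    rw [IntermediateField.mem_fixingSubgroup_iff]
    intro x hx
    induction hx using IntermediateField.adjoin_induction with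
    | mem y hy => rw [Set.mem_singleton_iff.1 hy, hσ]
    | algebraMap y => exact σ.commutes y
    | add a b _ _ ha hb => rw [map_add, ha, hb]
    | inv a _ ha => rw [map_inv₀, ha]
    | mul a b _ _ ha hb => rw [map_mul, ha, hb]
  obtain ⟨lam, hlam, τ, hτ, hl⟩ := exists_mul L' (tameField R K Ω π) σ hσ1
  exact ⟨lam, IntermediateField.fixingSubgroup_antitone hL' hlam, τ,
    fun M hM => copPow_of_mem hR hπ τ hτ hM, hl⟩

end roots

end Groth.Agent.Lefpen.H534.TameField
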