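import Groth.Agent.Sga5.FlcCover

/-!
# The torsor of isomorphisms `M → F` of a finite locally constant sheaf

`F` finite locally constant on `X`, `M` a finite abelian group:

* `exists_tuple`: tuples of sections are represented by a finite étale scheme (unique maps);
* `exists_isoTorsor`: homomorphisms `M → F` which are bijective on all stalks are represented by a
  finite étale scheme.
-/

set_option autoImplicit false
universe u

open CategoryTheory CategoryTheory.Limits AlgebraicGeometry Opposite

namespace Groth.Agent.Lefpen.H534.TupleRep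

open Groth.Agent.Etbase Groth.Agent.Etcore Groth.Agent.EtpbcA Groth.Agent.EtpbcA.ConsVan
open Groth.Agent.Sga5.FlcClopen Groth.Agent.Sga5.FlcCover

variable {X : Scheme.{u}} (F : EtCoh.Ab X)

/-- The universal section of a sheaf represented by a finite étale scheme. -/
theorem exists_universal (hF : EtCoh.IsFiniteLocallyConstant F) :
    ∃ (E : X.Etale) (_ : IsFinite E.hom) (s : EtCoh.sect F E),
      ∀ (W : X.Etale) (a : EtCoh.sect F W), ∃! f : W ⟶ E, res F f s = a := by
  obtain ⟨E, hE, ⟨e⟩⟩ := S0107.result F hF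
  let u : (yoneda.obj E ⋙ uliftFunctor.{u + 1}).obj (op E) := ULift.up (𝟙 E)
  have hkey : ∀ (W : X.Etale) (f : W ⟶ E), e.hom.app (op W) (res F f (e.inv.app (op E) u)) =
      ULift.up f := by
    intro W f
    have h2 := NatTrans.naturality_apply e.inv f.op u
    have h3 : e.hom.app (op W) (e.inv.app (op W) (ULift.up f)) = ULift.up f := by
      have := congrArg (fun t => t.app (op W) (ULift.up f)) e.inv_hom_id
      exact this
    rw [← h3]
    congr 1
    refine h2.symm.trans ?_
    congr 1
  refine ⟨E, hE, e.inv.app (op E) u, fun W a => ⟨(e.hom.app (op W) a).down, ?_, ?_⟩⟩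
  · have h1 : e.inv.app (op W) (e.hom.app (op W) a) = a := by
      have := congrArg (fun t => t.app (op W) a) e.hom_inv_id
      exact this
    have h2 := NatTrans.naturality_apply e.inv (e.hom.app (op W) a).down.op u
    refine h2.symm.trans (Eq.trans ?_ h1)
    congr 1
  · intro f hf
    rw [← hf, hkey]

/-- The universal tuple of sections. -/
theorem exists_tuple (hF : EtCoh.IsFiniteLocallyConstant F) (N : ℕ) :
    ∃ (V : X.Etale) (_ : IsFinite V.hom) (s : Fin N → EtCoh.sect F V),
      ∀ (W : X.Etale) (a : Fin N → EtCoh.sect F W), ∃! f : W ⟶ V, ∀ i, res F f (s i) = a i := by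
  induction N with
  | zero =>
    refine ⟨Scheme.Etale.mk (𝟙 X), (inferInstance : IsFinite (𝟙 X)), Fin.elim0, fun W a => ?_⟩
    refine ⟨MorphismProperty.Over.homMk W.hom (Category.comp_id _) trivial, fun i => i.elim0,
      fun f _ => ?_⟩
    apply MorphismProperty.Over.Hom.ext
    have h := MorphismProperty.Over.w f
    exact (Category.comp_id _).symm.trans h
  | succ N ih =>
    obtain ⟨V, hV, s, hs⟩ := ih
    obtain ⟨E, hE, t, ht⟩ := exists_universal F hF
    let P : X.Etale := Scheme.Etale.mk (pullback.fst V.hom E.hom ≫ V.hom)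
    let p : P ⟶ V := MorphismProperty.Over.homMk (pullback.fst V.hom E.hom) rfl trivial
    let q : P ⟶ E := MorphismProperty.Over.homMk (pullback.snd V.hom E.hom)
      pullback.condition.symm trivial
    refine ⟨P, (inferInstance : IsFinite (pullback.fst V.hom E.hom ≫ V.hom)),
      Fin.cons (res F q t) (fun i => res F p (s i)), fun W a => ?_⟩
    obtain ⟨f, hf, hf'⟩ := hs W (fun i => a i.succ)
    obtain ⟨g, hg, hg'⟩ := ht W (a 0)
    let h : W ⟶ P := MorphismProperty.Over.homMk
      (pullback.lift f.left g.left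
        ((MorphismProperty.Over.w f).trans (MorphismProperty.Over.w g).symm))
      (by
        change pullback.lift f.left g.left _ ≫ pullback.fst V.hom E.hom ≫ V.hom = W.hom
        rw [pullback.lift_fst_assoc]
        exact MorphismProperty.Over.w f) trivial
    have h1 : h ≫ p = f := by
      apply MorphismProperty.Over.Hom.ext
      exact pullback.lift_fst _ _ _
    have h2 : h ≫ q = g := by
      apply MorphismProperty.Over.Hom.ext
      exact pullback.lift_snd _ _ _
    refine ⟨h, fun i => ?_, fun h' hh' => ?_⟩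
    · refine Fin.cases ?_ (fun i => ?_) i
      · rw [Fin.cons_zero, ← res_comp, h2, hg]
      · rw [Fin.cons_succ, ← res_comp, h1, hf]
    · have h3 : h' ≫ p = f := by
        apply hf'
        intro i
        rw [res_comp]
        exact hh' i.succ
      have h4 : h' ≫ q = g := by
        apply hg'
        rw [res_comp]
        exact hh' 0
      apply MorphismProperty.Over.Hom.ext
      apply pullback.hom_ext
      · exact congrArg (fun (t : W ⟶ V) => t.left) (h3.trans h1.symm)
      · exact congrArg (fun (t : W ⟶ E) => t.left) (h4.trans h2.symm)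

section Sub

/-- A morphism of schemes landing in an open subset factors through it. -/
theorem exists_lift_opens {Y Z : Scheme.{u}} (O : Y.Opens) (f : Z ⟶ Y)
    (h : ∀ z : Z, f z ∈ O) : ∃ g : Z ⟶ O, g ≫ O.ι = f := by
  have hr : Set.range f ⊆ Set.range O.ι := by
    rintro _ ⟨w, rfl⟩
    rw [Scheme.Opens.range_ι]
    exact h w
  exact ⟨IsOpenImmersion.lift O.ι f hr, IsOpenImmersion.lift_fac O.ι f hr⟩

/-- A morphism landing in an open subset factors through it. -/
theorem exists_lift_sub {V W : X.Etale} (O : V.left.Opens) (f : W ⟶ V)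
    (h : ∀ w : W.left, f.left w ∈ O) : ∃ g : W ⟶ sub V O, g ≫ inc V O = f := by
  obtain ⟨g, hg⟩ := exists_lift_opens O f.left h
  refine ⟨MorphismProperty.Over.homMk g ?_ trivial, ?_⟩
  · change g ≫ O.ι ≫ V.hom = W.hom
    rw [reassoc_of% hg]
    exact MorphismProperty.Over.w f
  · apply MorphismProperty.Over.Hom.ext
    exact hg

theorem cancel_mono_ι {Y Z : Scheme.{u}} (O : Y.Opens) {f g : Z ⟶ O} (h : f ≫ O.ι = g ≫ O.ι) :
    f = g := (cancel_mono O.ι).1 h

theorem inc_cancel {V W : X.Etale} (O : V.left.Opens) {f g : W ⟶ sub V O}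
    (h : f ≫ inc V O = g ≫ inc V O) : f = g := by
  apply MorphismProperty.Over.Hom.ext
  have h1 := congrArg (fun (t : W ⟶ V) => t.left) h
  exact cancel_mono_ι O h1

end Sub

/-- Homomorphisms `M → F` which are bijective on all stalks are represented by a finite étale
scheme. -/
theorem exists_isoTorsor (hF : EtCoh.IsFiniteLocallyConstant F) (M : Type) [AddCommGroup M]
    [Finite M] :
    ∃ (P : X.Etale) (_ : IsFinite P.hom) (φ : M →+ EtCoh.sect F P), (∀ y, BijAt F φ y) ∧
      ∀ (W : X.Etale) (ψ : M →+ EtCoh.sect F W), (∀ y, BijAt F ψ y) →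
        ∃! f : W ⟶ P, ∀ m, res F f (φ m) = ψ m := by
  let e := Finite.equivFin M
  obtain ⟨V, hV, s, hs⟩ := exists_tuple F hF (Nat.card M)
  -- the locus of additivity
  let d : M × M → EtCoh.sect F V := fun p => s (e (p.1 + p.2)) - (s (e p.1) + s (e p.2))
  have hC1 : IsClopen (⋂ p, {v | Van F (d p) v}) :=
    isClopen_iInter_of_finite (fun p => isClopen_van hF (d p))
  let O1 : V.left.Opens := ⟨⋂ p, {v | Van F (d p) v}, hC1.isOpen⟩
  let T1 : X.Etale := sub V O1
  have hT1 : IsFinite T1.hom := isFinite_sub V O1 hC1.isClosed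
  let i1 : T1 ⟶ V := inc V O1
  have hadd : ∀ m m' : M, res F i1 (s (e (m + m'))) =
      res F i1 (s (e m)) + res F i1 (s (e m')) := by
    intro m m'
    rw [← sub_eq_zero, ← map_add, ← map_sub]
    apply eq_zero_of_van
    intro z
    apply Van.res
    exact Set.mem_iInter.1 z.2 (m, m')
  let φ1 : M →+ EtCoh.sect F T1 := AddMonoidHom.mk' (fun m => res F i1 (s (e m))) hadd
  have hC2 := isClopen_bijAt hF φ1
  let O2 : T1.left.Opens := ⟨{v | BijAt F φ1 v}, hC2.isOpen⟩
  let T2 : X.Etale := sub T1 O2
  have hT2 : IsFinite T2.hom := isFinite_sub T1 O2 hC2.isClosed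
  let i2 : T2 ⟶ T1 := inc T1 O2
  refine ⟨T2, hT2, resHom i2 φ1, fun z => ?_, fun W ψ hψ => ?_⟩
  · rw [bijAt_res_iff]
    exact z.2
  · obtain ⟨f, hf, hf'⟩ := hs W (fun i => ψ (e.symm i))
    have hfm : ∀ m : M, res F f (s (e m)) = ψ m := fun m => by rw [hf, Equiv.symm_apply_apply]
    have h1 : ∀ w : W.left, f.left w ∈ O1 := by
      intro w
      refine Set.mem_iInter.2 fun p => ?_
      change Van F (d p) (f.left w)
      rw [← van_res_iff]
      apply van_zero_of_eq
      simp only [d, map_sub, map_add, hfm, sub_self]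
    obtain ⟨g, hg⟩ := exists_lift_sub O1 f h1
    have hgm : ∀ m : M, res F g (φ1 m) = ψ m := by
      intro m
      change res F g (res F i1 (s (e m))) = ψ m
      rw [← res_comp, hg, hfm]
    have h2 : ∀ w : W.left, g.left w ∈ O2 := by
      intro w
      change BijAt F φ1 (g.left w)
      rw [← bijAt_res_iff]
      have : resHom g φ1 = ψ := by
        ext m
        exact hgm m
      rw [this]
      exact hψ w
    obtain ⟨h, hh⟩ := exists_lift_sub O2 g h2
    refine ⟨h, fun m => ?_, fun h' hh' => ?_⟩
    · change res F h (res F i2 (φ1 m)) = ψ m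
      rw [← res_comp, hh, hgm]
    · apply inc_cancel O2
      apply inc_cancel O1
      rw [hh, hg]
      apply hf'
      intro i
      rw [Category.assoc, res_comp, res_comp]
      obtain ⟨m, rfl⟩ := e.surjective i
      rw [Equiv.symm_apply_apply]
      exact hh' m

end Groth.Agent.Lefpen.H534.TupleRep
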